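import Groth.Agent.CorootLib.Points

/-!
# The coroot and the commutation formula
-/

set_option autoImplicit false
set_option maxHeartbeats 1000000
universe u

open CategoryTheory CategoryTheory.Limits MonoidalCategory CartesianMonoidalCategory AlgebraicGeometry
open Groth.Agent.GaPts
open scoped MonObj

noncomputable section

namespace Groth.Agent.BigCell

variable {S : Scheme.{u}} {G T : Over S} [GrpObj G] [GrpObj T] {i : T ⟶ G} {α : T ⟶ Red.Gm S}
    {pp pm : Red.Ga S ⟶ G}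

/-- What is known about the coefficient. -/
structure Coeff (st : Sys i α pp pm) (a : Γ((𝟙_ (Over S)).left, ⊤)) : Prop where
  unit : IsUnit a
  spec : ∀ (X : Over S) [IsAffine X.left], c1 st X = -pull X a

section

variable {st : Sys i α pp pm} {a : Γ((𝟙_ (Over S)).left, ⊤)}

theorem Coeff.crd_field (C : Coeff st a) (hT : Red.IsTorus T)
    (hα : ∀ s : S, (Over.pullback (Red.geomPt s)).map α ≠ 1) (hnc : NonComm pp pm) {X : Over S}
    {u A B : Γ(X.left, ⊤)} {τ : X ⟶ T} (h : Crd i pp pm u A τ B) {K : Type u} [Field K] [IsAlgClosed K]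
    {k : Spec (CommRingCat.of K) ⟶ S} (p : fieldPt K k ⟶ X) :
    p.left.appTop A * (1 + pull (fieldPt K k) a * p.left.appTop u) = 1 := by
  have := st.crd_field hT hα hnc (h.comp p)
  rw [C.spec (fieldPt K k), neg_mul, sub_neg_eq_add] at this
  exact this

theorem Coeff.isUnit_of_crd (C : Coeff st a) (hT : Red.IsTorus T)
    (hα : ∀ s : S, (Over.pullback (Red.geomPt s)).map α ≠ 1) (hnc : NonComm pp pm) {X : Over S}
    {u A B : Γ(X.left, ⊤)} {τ : X ⟶ T} (h : Crd i pp pm u A τ B) : IsUnit (1 + pull X a * u) :=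
  isUnit_of_field _ fun K _ _ k p h0 => by
    have := C.crd_field hT hα hnc h p
    rw [map_add, map_one, map_mul, appTop_pull] at h0
    rw [h0, mul_zero] at this
    exact zero_ne_one this

theorem Coeff.inCell_of_isUnit (C : Coeff st a) (hT : Red.IsTorus T)
    (hα : ∀ s : S, (Over.pullback (Red.geomPt s)).map α ≠ 1) (hnc : NonComm pp pm) {X : Over S} {u : Γ(X.left, ⊤)}
    (h : IsUnit (1 + pull X a * u)) : InCell i pp pm (rt pp 1 * rt pm u) :=
  st.inCell_of_field fun K _ _ k p => by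
    rw [MonObj.comp_mul, comp_rt, comp_rt, map_one]
    refine st.inCell_field hT hα hnc ?_
    have h1 := (h.map p.left.appTop.hom).ne_zero
    rw [map_add, map_one, map_mul, appTop_pull] at h1
    rwa [C.spec (fieldPt K k), neg_mul, sub_neg_eq_add]

theorem Coeff.values (C : Coeff st a) (hT : Red.IsTorus T)
    (hα : ∀ s : S, (Over.pullback (Red.geomPt s)).map α ≠ 1) {X : Over S} {u B : Γ(X.left, ⊤)}
    {A : (Γ(X.left, ⊤))ˣ} {τ : X ⟶ T} (hu : IsUnit u) (h : Crd i pp pm u A τ B) :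
    B = u * A ∧ (((av' α τ * A)⁻¹ : (Γ(X.left, ⊤))ˣ) : Γ(X.left, ⊤)) = 1 - pull X a * (u * A) := by
  have key : ∀ (Y : Over S) (g : Y ⟶ X), IsAffine Y.left → g.left.appTop (B - u * (A : Γ(X.left, ⊤))) = 0 ∧
      g.left.appTop ((((av' α τ * A)⁻¹ : (Γ(X.left, ⊤))ˣ) : Γ(X.left, ⊤)) -
        (1 - pull X a * (u * (A : Γ(X.left, ⊤))))) = 0 := by
    intro Y g hY
    haveI := hY
    have h1 := h.comp g
    obtain ⟨A', hA'⟩ := A.isUnit.map g.left.appTop.hom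
    change (A' : Γ(Y.left, ⊤)) = g.left.appTop (A : Γ(X.left, ⊤)) at hA'
    rw [← hA'] at h1
    have hc : IsUnit (c1 st Y) := by
      rw [C.spec Y]
      exact (C.unit.map _).neg
    obtain ⟨e1, e2⟩ := st.split_values hT hα Y hc (hu.map g.left.appTop.hom) h1
    have e3 : (((av' α (g ≫ τ) * A')⁻¹ : (Γ(Y.left, ⊤))ˣ) : Γ(Y.left, ⊤)) =
        g.left.appTop ((((av' α τ * A)⁻¹ : (Γ(X.left, ⊤))ˣ) : Γ(X.left, ⊤))) :=
      appTop_inv_val g (by rw [Units.val_mul, Units.val_mul, map_mul, hA', ← comp_av']; rfl)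
    refine ⟨?_, ?_⟩
    · rw [map_sub, map_mul, ← hA', e1, sub_eq_zero]
    · rw [map_sub, map_sub, ← e3, e2, map_one, map_mul, map_mul, appTop_pull, C.spec Y, ← hA', neg_mul, ← sub_eq_add_neg,
        sub_eq_zero]
  exact ⟨sub_eq_zero.1 (eq_zero_of_affine _ fun Y g hY => (key Y g hY).1),
    sub_eq_zero.1 (eq_zero_of_affine _ fun Y g hY => (key Y g hY).2)⟩

theorem Coeff.exact_unit (C : Coeff st a) (hT : Red.IsTorus T)
    (hα : ∀ s : S, (Over.pullback (Red.geomPt s)).map α ≠ 1) (hnc : NonComm pp pm) {X : Over S} {v A B : Γ(X.left, ⊤)}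
    {τ : X ⟶ T} (hv : IsUnit v) (h : Crd i pp pm v A τ B) :
    A * (1 + pull X a * v) = 1 ∧ B = v * A ∧ (av' α τ : Γ(X.left, ⊤)) = (1 + pull X a * v) ^ 2 := by
  have hu := C.isUnit_of_crd hT hα hnc h
  obtain ⟨X', π, hπ, s, hs⟩ := exists_param X ![(1 : Γ(X.left, ⊤)), pull X a, 1 + pull X a * v] ![0, 1, v]
    (fun k => by fin_cases k <;> first | exact Or.inl isUnit_one | exact Or.inr isUnit_one | exact Or.inl hu)
  haveI := hπ
  have h0 := hs 0
  have h1 := hs 1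
  have h2 := hs 2
  simp only [Matrix.cons_val_zero, Matrix.cons_val_one, Matrix.cons_val_two, Matrix.head_cons, Matrix.tail_cons,
    map_one, map_zero, map_add, map_mul, appTop_pull, one_mul, add_zero] at h0 h1 h2
  obtain ⟨Au, τu, Bu, hsc⟩ := exists_crd (C.inCell_of_isUnit hT hα hnc (u := s) (by rwa [add_comm] at h1))
  obtain ⟨au, rfl⟩ := st.isUnit_crd hsc
  obtain ⟨e1, e2⟩ := C.values hT hα h0 hsc
  obtain ⟨q, hq⟩ := h0.mul au.isUnit
  obtain ⟨vu, hvu⟩ := hv.map π.left.appTop.hom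
  change (vu : Γ(X'.left, ⊤)) = π.left.appTop v at hvu
  have hqv : IsUnit ((q : Γ(X'.left, ⊤)) + (vu : Γ(X'.left, ⊤))) := by
    refine isUnit_of_field _ fun K _ _ k p hne => ?_
    have e := C.crd_field hT hα hnc hsc p
    refine (h2.map p.left.appTop.hom).ne_zero ?_
    rw [← hvu]
    show p.left.appTop ((1 + pull X' a * (vu : Γ(X'.left, ⊤))) * s + vu) = 0
    rw [hq] at hne
    simp only [map_add, map_mul, map_one, appTop_pull] at hne ⊢
    linear_combination (1 + pull (fieldPt K k) a * p.left.appTop s) * hne - p.left.appTop s * e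
  have hF := h.comp π
  rw [← hvu] at hF
  have hR : Crd i pp pm (Bu * ((q⁻¹ : (Γ(X'.left, ⊤))ˣ) : Γ(X'.left, ⊤)) * (vu : Γ(X'.left, ⊤)))
      (π.left.appTop A) (π ≫ τ) (π.left.appTop B) := by
    rw [e1, ← hq, Units.mul_inv, one_mul]
    exact hF
  have e := st.split_eq hT hα hsc hq hqv hF hR
  rw [e2, ← hq] at e
  have hA : A * (1 + pull X a * v) = 1 := by
    refine appTop_injective π ?_
    rw [map_mul, map_add, map_mul, map_one, appTop_pull, ← hvu]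
    refine q.isUnit.mul_left_cancel ?_
    linear_combination e
  obtain ⟨aA, rfl⟩ := st.isUnit_crd h
  obtain ⟨f1, f2⟩ := C.values hT hα hv h
  refine ⟨hA, f1, ?_⟩
  rw [show 1 - pull X a * (v * (aA : Γ(X.left, ⊤))) = (aA : Γ(X.left, ⊤)) by linear_combination -hA] at f2
  have h3 : (1 : Γ(X.left, ⊤)) = (av' α τ * aA : (Γ(X.left, ⊤))ˣ) * (aA : Γ(X.left, ⊤)) := by
    rw [← f2, Units.mul_inv]
  rw [Units.val_mul] at h3
  linear_combination (-(1 + pull X a * v) ^ 2) * h3 -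
    (av' α τ : Γ(X.left, ⊤)) * ((aA : Γ(X.left, ⊤)) * (1 + pull X a * v) + 1) * hA

/-- The coordinates of `p₊(1) p₋(v)`. -/
theorem Coeff.exact (C : Coeff st a) (hT : Red.IsTorus T)
    (hα : ∀ s : S, (Over.pullback (Red.geomPt s)).map α ≠ 1) (hnc : NonComm pp pm) {X : Over S} {v A B : Γ(X.left, ⊤)}
    {τ : X ⟶ T} (h : Crd i pp pm v A τ B) :
    A * (1 + pull X a * v) = 1 ∧ B = v * A ∧ (av' α τ : Γ(X.left, ⊤)) = (1 + pull X a * v) ^ 2 := by
  haveI := st.mon_α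
  obtain ⟨X', π, hπ, s, hs⟩ := exists_param X ![(1 : Γ(X.left, ⊤)), pull X a, -1] ![0, 1, v]
    (fun k => by fin_cases k <;> first | exact Or.inl isUnit_one | exact Or.inr isUnit_one | exact Or.inl isUnit_one.neg)
  haveI := hπ
  have h0 := hs 0
  have h1 := hs 1
  have h2 := hs 2
  simp only [Matrix.cons_val_zero, Matrix.cons_val_one, Matrix.cons_val_two, Matrix.head_cons, Matrix.tail_cons,
    map_one, map_zero, map_neg, appTop_pull, one_mul, add_zero] at h0 h1 h2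
  obtain ⟨Au, τu, Bu, hsc⟩ := exists_crd (C.inCell_of_isUnit hT hα hnc (u := s) (by rwa [add_comm] at h1))
  obtain ⟨au, rfl⟩ := st.isUnit_crd hsc
  set w := π.left.appTop v with hw
  have hvc := h.comp π
  obtain ⟨Aw, τw, Bw, hwc⟩ := exists_crd (st.inCell_of_add hT hα hsc (v := w - s) (by
    rw [add_sub_cancel]; exact hvc.inCell))
  obtain ⟨u1, u2, u3⟩ := C.exact_unit hT hα hnc h0 hsc
  obtain ⟨w1, w2, w3⟩ := C.exact_unit hT hα hnc
    (au.isUnit.mul (by rw [sub_eq_add_neg, add_comm]; simpa using h2)) hwc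
  have h3 := st.crd_add hT hα hsc hwc
  rw [add_sub_cancel] at h3
  obtain ⟨eA, eτ, eB⟩ := st.crd_unique hvc h3
  set P := pull X' a with hP
  set au' : Γ(X'.left, ⊤) := (au : Γ(X'.left, ⊤)) with hau
  have hA : π.left.appTop A * (1 + P * w) = 1 := by
    rw [eA]
    linear_combination w1 + Aw * u1
  refine ⟨appTop_injective π ?_, appTop_injective π ?_, appTop_injective π ?_⟩
  · rw [map_mul, map_add, map_mul, map_one, appTop_pull]
    exact hA
  · have hc : (((av' α τu)⁻¹ : (Γ(X'.left, ⊤))ˣ) : Γ(X'.left, ⊤)) = au' ^ 2 := by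
      refine Units.inv_eq_of_mul_eq_one_right ?_
      rw [u3]
      linear_combination (au' * (1 + P * s) + 1) * u1
    have hi : au' * ((au⁻¹ : (Γ(X'.left, ⊤))ˣ) : Γ(X'.left, ⊤)) = 1 := au.mul_inv
    rw [eB, map_mul, eA, ← hw, hc, u2, w2]
    linear_combination au' ^ 2 * (w - s) * Aw * hi - s * au' * w1 + au' * Aw * (w - s) * u1
  · rw [map_pow, map_add, map_mul, map_one, appTop_pull, ← hw]
    have : π.left.appTop (av' α τ : Γ(X.left, ⊤)) = (av' α (π ≫ τ) : Γ(X'.left, ⊤)) := by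
      rw [← comp_av']; rfl
    rw [this, eτ, av'_mul', Units.val_mul, u3, w3, ← mul_pow]
    congr 1
    linear_combination P * (w - s) * u1

/-- The value of the coroot on `z`. -/
def avPt (st : Sys i α pp pm) (C : Coeff st a) (hT : Red.IsTorus T)
    (hα : ∀ s : S, (Over.pullback (Red.geomPt s)).map α ≠ 1) (hnc : NonComm pp pm) : Red.Gm S ⟶ T :=
  (exists_crd (C.inCell_of_isUnit hT hα hnc (X := Red.Gm S)
    (u := (Red.gmFn (𝟙 (Red.Gm S)) - 1) * (((C.unit.map (toUnit (Red.Gm S)).left.appTop.hom).unit⁻¹ :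
      (Γ((Red.Gm S).left, ⊤))ˣ) : Γ((Red.Gm S).left, ⊤)))
    (by
      rw [← mul_assoc, mul_comm (pull _ a), mul_assoc]
      show IsUnit (1 + (_ - 1) * ((toUnit (Red.Gm S)).left.appTop.hom a * _))
      rw [IsUnit.mul_val_inv, mul_one, add_sub_cancel]
      exact GmPts.isUnit_gmFn _))).choose_spec.choose

theorem Coeff.crd_avPt (C : Coeff st a) (hT : Red.IsTorus T)
    (hα : ∀ s : S, (Over.pullback (Red.geomPt s)).map α ≠ 1) (hnc : NonComm pp pm) {X : Over S} (u : Γ(X.left, ⊤))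
    (z : (Γ(X.left, ⊤))ˣ) (hz : (z : Γ(X.left, ⊤)) = 1 + pull X a * u) :
    Crd i pp pm u ((z⁻¹ : (Γ(X.left, ⊤))ˣ) : Γ(X.left, ⊤)) (GmPts.ptOfUnit z ≫ avPt st C hT hα hnc)
      (u * ((z⁻¹ : (Γ(X.left, ⊤))ˣ) : Γ(X.left, ⊤))) := by
  obtain ⟨A, τ, B, h⟩ := exists_crd (C.inCell_of_isUnit hT hα hnc (u := u) (hz ▸ z.isUnit))
  obtain ⟨e1, e2, -⟩ := C.exact hT hα hnc h
  have hA : A = ((z⁻¹ : (Γ(X.left, ⊤))ˣ) : Γ(X.left, ⊤)) := by
    refine (Units.inv_eq_of_mul_eq_one_right ?_).symm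
    rw [hz, mul_comm, e1]
  subst hA
  suffices hτ : τ = GmPts.ptOfUnit z ≫ avPt st C hT hα hnc by rw [← hτ, ← e2]; exact h
  let pz := GmPts.ptOfUnit (T := X) z
  obtain ⟨B₀, hB₀⟩ := (exists_crd (C.inCell_of_isUnit hT hα hnc (X := Red.Gm S)
    (u := (Red.gmFn (𝟙 (Red.Gm S)) - 1) * (((C.unit.map (toUnit (Red.Gm S)).left.appTop.hom).unit⁻¹ :
      (Γ((Red.Gm S).left, ⊤))ˣ) : Γ((Red.Gm S).left, ⊤)))
    (by
      rw [← mul_assoc, mul_comm (pull _ a), mul_assoc]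
      show IsUnit (1 + (_ - 1) * ((toUnit (Red.Gm S)).left.appTop.hom a * _))
      rw [IsUnit.mul_val_inv, mul_one, add_sub_cancel]
      exact GmPts.isUnit_gmFn _))).choose_spec.choose_spec
  have h2 := hB₀.comp pz
  have hu : pz.left.appTop ((Red.gmFn (𝟙 (Red.Gm S)) - 1) *
      (((C.unit.map (toUnit (Red.Gm S)).left.appTop.hom).unit⁻¹ : (Γ((Red.Gm S).left, ⊤))ˣ) :
        Γ((Red.Gm S).left, ⊤))) = u := by
    refine (C.unit.map (toUnit X).left.appTop.hom).mul_left_cancel ?_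
    show pull X a * _ = pull X a * u
    rw [map_mul, map_sub, map_one, ← GmPts.gmFn_comp, Category.comp_id, GmPts.gmFn_ptOfUnit, ← appTop_pull pz a,
      mul_left_comm, ← map_mul]
    show _ * pz.left.appTop ((toUnit (Red.Gm S)).left.appTop.hom a * _) = _
    rw [IsUnit.mul_val_inv, map_one, mul_one, appTop_pull, hz, add_sub_cancel_left]
  rw [hu] at h2
  exact (st.crd_unique h h2).2.1

theorem Coeff.isMonHom_avPt (C : Coeff st a) (hT : Red.IsTorus T)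
    (hα : ∀ s : S, (Over.pullback (Red.geomPt s)).map α ≠ 1) (hnc : NonComm pp pm) :
    IsMonHom (avPt st C hT hα hnc) := by
  refine RedRank.isMonHom_of_mul _ fun X z z' => ?_
  set x := GmPts.unitOfPt z
  set x' := GmPts.unitOfPt z'
  rw [← GmPts.ptOfUnit_unitOfPt z, ← GmPts.ptOfUnit_unitOfPt z', ← GmPts.ptOfUnit_mul]
  obtain ⟨b, hb⟩ := (C.unit.map (toUnit X).left.appTop.hom).exists_left_inv
  change b * pull X a = 1 at hb
  set X₁ : Γ(X.left, ⊤) := (x : Γ(X.left, ⊤))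
  set X₂ : Γ(X.left, ⊤) := (x' : Γ(X.left, ⊤))
  let u := (X₁ - 1) * b
  let v := X₁ * (X₂ - 1) * b
  have hu : (x : Γ(X.left, ⊤)) = 1 + pull X a * u := by linear_combination -(X₁ - 1) * hb
  have hv' : (x' : Γ(X.left, ⊤)) = 1 + pull X a * (((x⁻¹ : (Γ(X.left, ⊤))ˣ) : Γ(X.left, ⊤)) * v) := by
    linear_combination -(((x⁻¹ : (Γ(X.left, ⊤))ˣ) : Γ(X.left, ⊤)) * X₁ * (X₂ - 1)) * hb - (X₂ - 1) * x.inv_mul
  have huv : ((x * x' : (Γ(X.left, ⊤))ˣ) : Γ(X.left, ⊤)) = 1 + pull X a * (u + v) := by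
    rw [Units.val_mul]
    linear_combination -(X₁ * X₂ - 1) * hb
  have h3 := st.crd_add hT hα (C.crd_avPt hT hα hnc u x hu) (C.crd_avPt hT hα hnc _ x' hv')
  exact (st.crd_unique (C.crd_avPt hT hα hnc (u + v) (x * x') huv) h3).2.1

theorem Coeff.avPt_comp_α (C : Coeff st a) (hT : Red.IsTorus T)
    (hα : ∀ s : S, (Over.pullback (Red.geomPt s)).map α ≠ 1) (hnc : NonComm pp pm) :
    avPt st C hT hα hnc ≫ α = (𝟙 (Red.Gm S)) ^ 2 := by
  refine (GmPts.equiv (Red.Gm S)).injective ?_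
  show GmPts.unitOfPt _ = _
  rw [map_pow]
  show _ = GmPts.unitOfPt (𝟙 (Red.Gm S)) ^ 2
  set x := GmPts.unitOfPt (𝟙 (Red.Gm S))
  obtain ⟨b, hb⟩ := (C.unit.map (toUnit (Red.Gm S)).left.appTop.hom).exists_left_inv
  change b * pull _ a = 1 at hb
  have hu : (x : Γ((Red.Gm S).left, ⊤)) = 1 + pull _ a * (((x : Γ((Red.Gm S).left, ⊤)) - 1) * b) := by
    linear_combination -((x : Γ((Red.Gm S).left, ⊤)) - 1) * hb
  have h := C.crd_avPt hT hα hnc _ x hu
  rw [GmPts.ptOfUnit_unitOfPt, Category.id_comp] at h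
  obtain ⟨-, -, e⟩ := C.exact hT hα hnc h
  rw [← hu] at e
  refine Units.ext ?_
  rw [Units.val_pow_eq_pow_val]
  exact e

/-- The commutation formula. -/
theorem Coeff.formula (C : Coeff st a) (hT : Red.IsTorus T)
    (hα : ∀ s : S, (Over.pullback (Red.geomPt s)).map α ≠ 1) (hnc : NonComm pp pm) {X : Over S}
    (x y : Γ(X.left, ⊤)) (z : (Γ(X.left, ⊤))ˣ) (hz : (z : Γ(X.left, ⊤)) = 1 + pull X a * x * y) :
    rt pp x * rt pm y = cell i pp pm (y * ((z⁻¹ : (Γ(X.left, ⊤))ˣ) : Γ(X.left, ⊤)))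
      (GmPts.ptOfUnit z ≫ avPt st C hT hα hnc) (x * ((z⁻¹ : (Γ(X.left, ⊤))ˣ) : Γ(X.left, ⊤))) := by
  haveI := st.mon_i
  haveI := st.mon_pp
  haveI := st.mon_pm
  haveI := C.isMonHom_avPt hT hα hnc
  set av := avPt st C hT hα hnc with hav
  have hunit : ∀ (Y : Over S) (x : (Γ(Y.left, ⊤))ˣ) (y : Γ(Y.left, ⊤)) (z : (Γ(Y.left, ⊤))ˣ),
      (z : Γ(Y.left, ⊤)) = 1 + pull Y a * x * y →
      rt pp (x : Γ(Y.left, ⊤)) * rt pm y = cell i pp pm (y * ((z⁻¹ : (Γ(Y.left, ⊤))ˣ) : Γ(Y.left, ⊤)))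
        (GmPts.ptOfUnit z ≫ av) ((x : Γ(Y.left, ⊤)) * ((z⁻¹ : (Γ(Y.left, ⊤))ˣ) : Γ(Y.left, ⊤))) := by
    intro Y x y z hz
    rw [st.crd_scale hT hα x y (C.crd_avPt hT hα hnc ((x : Γ(Y.left, ⊤)) * y) z (by rw [hz]; ring))]
    congr 1
    linear_combination (y * ((z⁻¹ : (Γ(Y.left, ⊤))ˣ) : Γ(Y.left, ⊤))) * x.inv_mul
  obtain ⟨X', π, hπ, s, hs⟩ := exists_param X ![(1 : Γ(X.left, ⊤)), -1, pull X a * y] ![0, x, 1]
    (fun k => by fin_cases k <;> first | exact Or.inl isUnit_one | exact Or.inl isUnit_one.neg | exact Or.inr isUnit_one)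
  haveI := hπ
  have h0 := hs 0
  have h1 := hs 1
  have h2 := hs 2
  simp only [Matrix.cons_val_zero, Matrix.cons_val_one, Matrix.cons_val_two, Matrix.head_cons, Matrix.tail_cons,
    map_one, map_zero, map_neg, map_mul, appTop_pull, one_mul, add_zero] at h0 h1 h2
  set P := pull X' a with hP
  set xx := π.left.appTop x with hxx
  set yy := π.left.appTop y with hyy
  change IsUnit (-1 * s + xx) at h1
  change IsUnit (P * yy * s + 1) at h2
  obtain ⟨x₂, hx₂⟩ := h0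
  obtain ⟨x₁, hx₁⟩ := h1
  obtain ⟨z₂, hz₂⟩ := h2
  obtain ⟨zz, hzz⟩ := z.isUnit.map π.left.appTop.hom
  change (zz : Γ(X'.left, ⊤)) = π.left.appTop (z : Γ(X.left, ⊤)) at hzz
  have hzv : (zz : Γ(X'.left, ⊤)) = 1 + P * xx * yy := by
    rw [hzz, hz, map_add, map_mul, map_mul, map_one, appTop_pull]
  set i₂ : Γ(X'.left, ⊤) := ((z₂⁻¹ : (Γ(X'.left, ⊤))ˣ) : Γ(X'.left, ⊤)) with hi₂
  have ez₂ : (z₂ : Γ(X'.left, ⊤)) * i₂ = 1 := z₂.mul_inv
  have hxs : xx = (x₁ : Γ(X'.left, ⊤)) + x₂ := by rw [hx₁, hx₂]; ring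
  have e₂ := hunit X' x₂ yy z₂ (by rw [hz₂, hx₂]; ring)
  have hz₁ : (((zz * z₂⁻¹ : (Γ(X'.left, ⊤))ˣ)) : Γ(X'.left, ⊤)) = 1 + P * x₁ * (yy * i₂) := by
    rw [Units.val_mul, ← hi₂, hzv]
    linear_combination ez₂ - i₂ * hz₂ + P * yy * i₂ * hxs + P * yy * i₂ * hx₂
  have e₁ := hunit X' x₁ (yy * i₂) (zz * z₂⁻¹) hz₁
  set W : Γ(X'.left, ⊤) := ((zz⁻¹ : (Γ(X'.left, ⊤))ˣ) : Γ(X'.left, ⊤)) with hW
  have ew : (zz : Γ(X'.left, ⊤)) * W = 1 := zz.mul_inv
  have hzi : (((zz * z₂⁻¹)⁻¹ : (Γ(X'.left, ⊤))ˣ) : Γ(X'.left, ⊤)) = (z₂ : Γ(X'.left, ⊤)) * W := by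
    rw [mul_inv_rev, inv_inv, Units.val_mul]
  rw [hzi] at e₁
  rw [← hi₂] at e₂
  rw [← cancel_epi π, MonObj.comp_mul, comp_rt, comp_rt, comp_cell, map_mul, map_mul, ← Category.assoc,
    GmPts.ptOfUnit_comp, show Units.map π.left.appTop.hom.toMonoidHom z = zz from Units.ext hzz.symm,
    ← appTop_inv_val π hzz, ← hW, ← hxx, ← hyy]
  calc rt pp xx * rt pm yy = rt pp (x₁ : Γ(X'.left, ⊤)) * (rt pp (x₂ : Γ(X'.left, ⊤)) * rt pm yy) := by
        rw [hxs, rt_add, _root_.mul_assoc]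
    _ = (rt pp (x₁ : Γ(X'.left, ⊤)) * rt pm (yy * i₂)) * ((GmPts.ptOfUnit z₂ ≫ av) ≫ i) *
          rt pp ((x₂ : Γ(X'.left, ⊤)) * i₂) := by rw [e₂]; simp only [cell]; group
    _ = rt pm (yy * i₂ * ((z₂ : Γ(X'.left, ⊤)) * W)) * ((GmPts.ptOfUnit (zz * z₂⁻¹) ≫ av) ≫ i) *
          (rt pp ((x₁ : Γ(X'.left, ⊤)) * ((z₂ : Γ(X'.left, ⊤)) * W)) * ((GmPts.ptOfUnit z₂ ≫ av) ≫ i)) *
          rt pp ((x₂ : Γ(X'.left, ⊤)) * i₂) := by rw [e₁]; simp only [cell]; group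
    _ = rt pm (yy * W) * ((GmPts.ptOfUnit zz ≫ av) ≫ i) * rt pp (xx * W) := by
        have ea : av' α (GmPts.ptOfUnit z₂ ≫ av) = z₂ ^ 2 := by
          rw [av', Category.assoc, C.avPt_comp_α hT hα hnc, pow_two, MonObj.comp_mul, Category.comp_id,
            GmPts.unitOfPt_mul, GmPts.unitOfPt_ptOfUnit, pow_two]
        set D : Γ(X'.left, ⊤) := (x₁ : Γ(X'.left, ⊤)) * ((z₂ : Γ(X'.left, ⊤)) * W)
        have hsw : rt pp D * ((GmPts.ptOfUnit z₂ ≫ av) ≫ i) =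
            ((GmPts.ptOfUnit z₂ ≫ av) ≫ i) * rt pp (i₂ ^ 2 * D) := by
          have := st.conjP (GmPts.ptOfUnit z₂ ≫ av) (i₂ ^ 2 * D)
          rw [ea, Units.val_pow_eq_pow_val, mul_inv_eq_iff_eq_mul] at this
          rw [this]
          congr 2
          linear_combination (-((z₂ : Γ(X'.left, ⊤)) * i₂ + 1) * D) * ez₂
        rw [hsw, ← _root_.mul_assoc, _root_.mul_assoc (rt pm _), ← MonObj.mul_comp, ← MonObj.mul_comp,
          ← GmPts.ptOfUnit_mul, inv_mul_cancel_right, _root_.mul_assoc, ← rt_add]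
        congr 2
        · congr 1
          linear_combination yy * W * ez₂
        · linear_combination (x₁ : Γ(X'.left, ⊤)) * i₂ * W * ez₂ + xx * W * ez₂ - xx * W * i₂ * hz₂ +
            (P * xx * yy * W * i₂) * hx₂ - W * i₂ * hxs - (x₂ : Γ(X'.left, ⊤)) * i₂ * ew +
            ((x₂ : Γ(X'.left, ⊤)) * i₂ * W) * hzv

theorem Coeff.inCell_iff (C : Coeff st a) (hT : Red.IsTorus T)
    (hα : ∀ s : S, (Over.pullback (Red.geomPt s)).map α ≠ 1) (hnc : NonComm pp pm) {X : Over S}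
    (x y : Γ(X.left, ⊤)) : InCell i pp pm (rt pp x * rt pm y) ↔ IsUnit (1 + pull X a * x * y) := by
  refine ⟨fun h => isUnit_of_field _ fun K _ _ k p h0 => ?_, fun h => ⟨_, _, _,
    C.formula hT hα hnc x y h.unit h.unit_spec⟩⟩
  rw [map_add, map_one, map_mul, map_mul, appTop_pull] at h0
  have hx : p.left.appTop x ≠ 0 := fun e => by
    rw [e, mul_zero, zero_mul, add_zero] at h0
    exact one_ne_zero h0
  obtain ⟨xu, hxu⟩ := isUnit_of_ne_zero hx
  have h1 := h.comp p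
  rw [MonObj.comp_mul, comp_rt, comp_rt, ← hxu] at h1
  obtain ⟨A, τ, B, h2⟩ := exists_crd (st.inCell_crd_of_inCell hT hα xu _ h1)
  have h3 := (C.isUnit_of_crd hT hα hnc h2).ne_zero
  rw [hxu, ← mul_assoc] at h3
  exact h3 h0

/-- The coefficient and the coroot are determined. -/
theorem Coeff.eq_of_formula (C : Coeff st a) (hT : Red.IsTorus T)
    (hα : ∀ s : S, (Over.pullback (Red.geomPt s)).map α ≠ 1) (hnc : NonComm pp pm)
    {a' : Γ((𝟙_ (Over S)).left, ⊤)} (ha' : IsUnit a') {av : Red.Gm S ⟶ T}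
    (h : ∀ (X : Over S) (u : Γ(X.left, ⊤)) (z : (Γ(X.left, ⊤))ˣ), (z : Γ(X.left, ⊤)) = 1 + pull X a' * u →
      rt pp (1 : Γ(X.left, ⊤)) * rt pm u = cell i pp pm (u * ((z⁻¹ : (Γ(X.left, ⊤))ˣ) : Γ(X.left, ⊤)))
        (GmPts.ptOfUnit z ≫ av) ((z⁻¹ : (Γ(X.left, ⊤))ˣ) : Γ(X.left, ⊤))) :
    a' = a ∧ av = avPt st C hT hα hnc := by
  have hzz : ∀ (X : Over S) (u : Γ(X.left, ⊤)) (z z' : (Γ(X.left, ⊤))ˣ),
      (z : Γ(X.left, ⊤)) = 1 + pull X a * u → (z' : Γ(X.left, ⊤)) = 1 + pull X a' * u →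
      z = z' ∧ GmPts.ptOfUnit z ≫ avPt st C hT hα hnc = GmPts.ptOfUnit z' ≫ av := by
    intro X u z z' hz hz'
    obtain ⟨e1, e2, -⟩ := st.crd_unique (C.crd_avPt hT hα hnc u z hz) (h X u z' hz')
    exact ⟨inv_injective (Units.ext e1), e2⟩
  have hu : ∀ (X : Over S) (u : Γ(X.left, ⊤)), IsUnit u → IsUnit (1 + pull X a * u) →
      IsUnit (1 + pull X a' * u) → pull X a' = pull X a := by
    intro X u hu h1 h2
    obtain ⟨e, -⟩ := hzz X u h1.unit h2.unit h1.unit_spec h2.unit_spec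
    have e' : (1 : Γ(X.left, ⊤)) + pull X a * u = 1 + pull X a' * u := by
      rw [← h1.unit_spec, ← h2.unit_spec, e]
    exact hu.mul_right_cancel (by linear_combination -e')
  have haa : a' = a := by
    obtain ⟨X', π, hπ, s, hs⟩ := exists_param (𝟙_ (Over S))
      ![(1 : Γ((𝟙_ (Over S)).left, ⊤)), pull (𝟙_ (Over S)) a, pull (𝟙_ (Over S)) a'] ![0, 1, 1]
      (fun k => by fin_cases k <;> first | exact Or.inl isUnit_one | exact Or.inr isUnit_one)
    haveI := hπ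
    have h0 := hs 0
    have h1 := hs 1
    have h2 := hs 2
    simp only [Matrix.cons_val_zero, Matrix.cons_val_one, Matrix.cons_val_two, Matrix.head_cons, Matrix.tail_cons,
      map_one, map_zero, appTop_pull, one_mul, add_zero] at h0 h1 h2
    rw [add_comm] at h1 h2
    refine appTop_injective π ?_
    have := hu X' s h0 h1 h2
    rw [pull, pull, toUnit_unique (toUnit X') π] at this
    exact this
  refine ⟨haa, ?_⟩
  set x := GmPts.unitOfPt (𝟙 (Red.Gm S))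
  obtain ⟨b, hb⟩ := (C.unit.map (toUnit (Red.Gm S)).left.appTop.hom).exists_left_inv
  change b * pull _ a = 1 at hb
  have hx : (x : Γ((Red.Gm S).left, ⊤)) = 1 + pull _ a * (((x : Γ((Red.Gm S).left, ⊤)) - 1) * b) := by
    linear_combination -((x : Γ((Red.Gm S).left, ⊤)) - 1) * hb
  have e := (hzz _ _ x x hx (by rw [haa]; exact hx)).2
  rw [GmPts.ptOfUnit_unitOfPt, Category.id_comp, Category.id_comp] at e
  exact e.symm

end

end Groth.Agent.BigCell
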