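import Groth.Agent.BigCellLib.Coroot
import Groth.Agent.BigCellLib.Root
import Groth.Agent.BigCellLib.Commute
import Mathlib

/-!
# The coordinates of `p₊(1) p₋(u)` in the cell

`Crd u A τ B` says `p₊(1) p₋(u) = p₋(B) τ p₊(A)`. The torus recovers `p₊(x) p₋(y)` for a unit `x`; associativity
gives two functional equations; on power series they force `A = (1 - c₁ U)⁻¹`.
-/

set_option autoImplicit false
set_option maxHeartbeats 1000000
universe u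

open CategoryTheory CategoryTheory.Limits MonoidalCategory CartesianMonoidalCategory AlgebraicGeometry
open Groth.Agent.GaPts
open scoped MonObj

noncomputable section

namespace Groth.Agent.BigCell

variable {S : Scheme.{u}}

instance isAffine_affPt (X : Over S) [IsAffine X.left] {B : Type u} [CommRing B] (φ : Γ(X.left, ⊤) →+* B) :
    IsAffine (affPt X φ).left :=
  inferInstanceAs (IsAffine (Spec (CommRingCat.of B)))

theorem affVal_surjective (X : Over S) [IsAffine X.left] {B : Type u} [CommRing B] (φ : Γ(X.left, ⊤) →+* B) :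
    Function.Surjective (affVal X φ) :=
  (ConcreteCategory.bijective_of_isIso (Scheme.ΓSpecIso (CommRingCat.of B)).inv).2

/-- A map between two spectra over affine points. -/
theorem exists_affPoint_map {Y X : Over S} [IsAffine Y.left] [IsAffine X.left] (g : Y ⟶ X) {B B' : Type u}
    [CommRing B] [CommRing B'] (φ : Γ(X.left, ⊤) →+* B) (φ' : Γ(Y.left, ⊤) →+* B') (ψ : B →+* B')
    (h : ψ.comp φ = φ'.comp g.left.appTop.hom) :
    ∃ r : affPt Y φ' ⟶ affPt X φ, r ≫ affMap X φ = affMap Y φ' ≫ g ∧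
      ∀ b, r.left.appTop (affVal X φ b) = affVal Y φ' (ψ b) := by
  have hw : Spec.map (CommRingCat.ofHom ψ) ≫ Spec.map (CommRingCat.ofHom φ) ≫ X.left.isoSpec.inv =
      Spec.map (CommRingCat.ofHom φ') ≫ Y.left.isoSpec.inv ≫ g.left := by
    rw [← Scheme.isoSpec_inv_naturality g.left, ← Category.assoc, ← Category.assoc, ← Spec.map_comp, ← Spec.map_comp]
    congr 2
    rw [← CommRingCat.ofHom_comp, h]
    rfl
  refine ⟨Over.homMk (Spec.map (CommRingCat.ofHom ψ)) ?_, Over.OverMorphism.ext ?_, fun b => ?_⟩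
  · show Spec.map (CommRingCat.ofHom ψ) ≫ Spec.map (CommRingCat.ofHom φ) ≫ X.left.isoSpec.inv ≫ X.hom =
      Spec.map (CommRingCat.ofHom φ') ≫ Y.left.isoSpec.inv ≫ Y.hom
    have := congrArg (· ≫ X.hom) hw
    simpa only [Category.assoc, Over.w g] using this
  · show Spec.map (CommRingCat.ofHom ψ) ≫ Spec.map (CommRingCat.ofHom φ) ≫ X.left.isoSpec.inv =
      (Spec.map (CommRingCat.ofHom φ') ≫ Y.left.isoSpec.inv) ≫ g.left
    rw [hw, Category.assoc]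
  · exact (congrArg (fun χ => (ConcreteCategory.hom χ) b)
      (Scheme.ΓSpecIso_inv_naturality (CommRingCat.ofHom ψ))).symm

/-- A change of rings over one affine point. -/
theorem exists_affPoint' {X : Over S} [IsAffine X.left] {B B' : Type u} [CommRing B] [CommRing B']
    (φ : Γ(X.left, ⊤) →+* B) (φ' : Γ(X.left, ⊤) →+* B') (ψ : B →+* B') (h : ψ.comp φ = φ') :
    ∃ r : affPt X φ' ⟶ affPt X φ, ∀ b, r.left.appTop (affVal X φ b) = affVal X φ' (ψ b) := by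
  obtain ⟨r, -, hr⟩ := exists_affPoint_map (𝟙 X) φ φ' ψ (by
    rw [h, Over.id_left, Scheme.Hom.id_appTop]; rfl)
  exact ⟨r, hr⟩

variable {G T : Over S} [GrpObj G] [GrpObj T] {i : T ⟶ G} {α : T ⟶ Red.Gm S} {pp pm : Red.Ga S ⟶ G}

theorem av'_mul' [IsMonHom α] {X : Over S} (t t' : X ⟶ T) : av' α (t * t') = av' α t * av' α t' := by
  rw [av', MonObj.mul_comp, GmPts.unitOfPt_mul]

theorem av'_inv' [IsMonHom α] {X : Over S} (t : X ⟶ T) : av' α t⁻¹ = (av' α t)⁻¹ := by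
  rw [av', GrpObj.inv_comp, GmPts.unitOfPt_inv]

theorem comp_av' {X X' : Over S} (g : X' ⟶ X) (t : X ⟶ T) :
    Units.map g.left.appTop.hom.toMonoidHom (av' α t) = av' α (g ≫ t) := by
  show _ = GmPts.unitOfPt ((g ≫ t) ≫ α)
  rw [Category.assoc, GmPts.unitOfPt_comp g]

theorem appTop_inv_val {X X' : Over S} (g : X' ⟶ X) {x : (Γ(X.left, ⊤))ˣ} {y : (Γ(X'.left, ⊤))ˣ}
    (h : (y : Γ(X'.left, ⊤)) = g.left.appTop (x : Γ(X.left, ⊤))) :
    ((y⁻¹ : (Γ(X'.left, ⊤))ˣ) : Γ(X'.left, ⊤)) = g.left.appTop ((x⁻¹ : (Γ(X.left, ⊤))ˣ) : Γ(X.left, ⊤)) := by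
  refine Units.inv_eq_of_mul_eq_one_right ?_
  rw [h, ← map_mul, Units.mul_inv, map_one]

/-- The coordinates of `p₊(1) p₋(u)`. -/
def Crd (i : T ⟶ G) (pp pm : Red.Ga S ⟶ G) {X : Over S} (u A : Γ(X.left, ⊤)) (τ : X ⟶ T) (B : Γ(X.left, ⊤)) : Prop :=
  rt pp (1 : Γ(X.left, ⊤)) * rt pm u = cell i pp pm B τ A

theorem exists_crd {X : Over S} {u : Γ(X.left, ⊤)} (h : InCell i pp pm (rt pp 1 * rt pm u)) :
    ∃ A τ B, Crd i pp pm u A τ B := by
  obtain ⟨B, τ, A, h⟩ := h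
  exact ⟨A, τ, B, h⟩

theorem Crd.inCell {X : Over S} {u A B : Γ(X.left, ⊤)} {τ : X ⟶ T} (h : Crd i pp pm u A τ B) :
    InCell i pp pm (rt pp 1 * rt pm u) :=
  ⟨B, τ, A, h⟩

theorem Crd.comp {X X' : Over S} {u A B : Γ(X.left, ⊤)} {τ : X ⟶ T} (h : Crd i pp pm u A τ B) (g : X' ⟶ X) :
    Crd i pp pm (g.left.appTop u) (g.left.appTop A) (g ≫ τ) (g.left.appTop B) := by
  have := congrArg (g ≫ ·) (h : rt pp 1 * rt pm u = _)
  simp only [MonObj.comp_mul, comp_rt, map_one] at this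
  refine this.trans ?_
  simp only [cell, Category.assoc]

theorem Sys.crd_unique (st : Sys i α pp pm) {X : Over S} {u A A' B B' : Γ(X.left, ⊤)} {τ τ' : X ⟶ T}
    (h : Crd i pp pm u A τ B) (h' : Crd i pp pm u A' τ' B') : A = A' ∧ τ = τ' ∧ B = B' := by
  obtain ⟨hB, hτ, hA⟩ := st.cell_inj (h.symm.trans h')
  exact ⟨hA, hτ, hB⟩

theorem Sys.crd_zero (st : Sys i α pp pm) {X : Over S} : Crd i pp pm (0 : Γ(X.left, ⊤)) 1 1 0 := by
  haveI := st.mon_i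
  haveI := st.mon_pm
  simp only [Crd, cell, rt_zero, MonObj.one_comp, _root_.mul_one, _root_.one_mul]

/-- `p₊(x) p₋(y)` for a unit `x`. -/
theorem Sys.crd_scale (st : Sys i α pp pm) (hT : Red.IsTorus T)
    (hα : ∀ s : S, (Over.pullback (Red.geomPt s)).map α ≠ 1) {X : Over S} (x : (Γ(X.left, ⊤))ˣ) (y : Γ(X.left, ⊤))
    {A B : Γ(X.left, ⊤)} {τ : X ⟶ T} (h : Crd i pp pm ((x : Γ(X.left, ⊤)) * y) A τ B) :
    rt pp (x : Γ(X.left, ⊤)) * rt pm y =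
      cell i pp pm (((x⁻¹ : (Γ(X.left, ⊤))ˣ) : Γ(X.left, ⊤)) * B) τ ((x : Γ(X.left, ⊤)) * A) := by
  haveI := st.mon_α
  obtain ⟨X', π, _, _, t, ht⟩ := exists_lift hT α hα x
  haveI := epi_of_flat π
  have ht' : (av' α t : Γ(X'.left, ⊤)) = π.left.appTop (x : Γ(X.left, ⊤)) := ht
  rw [← cancel_epi π, MonObj.comp_mul, comp_rt, comp_rt, comp_cell, map_mul, map_mul, ← ht',
    ← appTop_inv_val π ht', ← st.cell_conj (fun Y a b => torus_comm hT a b) t]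
  have h1 : Crd i pp pm ((av' α t : Γ(X'.left, ⊤)) * π.left.appTop y) (π.left.appTop A) (π ≫ τ) (π.left.appTop B) := by
    rw [ht', ← map_mul]
    exact h.comp π
  rw [← (h1 : rt pp 1 * rt pm _ = _)]
  calc rt pp (av' α t : Γ(X'.left, ⊤)) * rt pm (π.left.appTop y)
      = ((t ≫ i) * rt pp 1 * (t ≫ i)⁻¹) *
          ((t ≫ i) * rt pm ((av' α t : Γ(X'.left, ⊤)) * π.left.appTop y) * (t ≫ i)⁻¹) := by
        rw [st.conjP, st.conjM, mul_one, Units.inv_mul_cancel_left]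
    _ = _ := by group

theorem Sys.inCell_crd_of_inCell (st : Sys i α pp pm) (hT : Red.IsTorus T)
    (hα : ∀ s : S, (Over.pullback (Red.geomPt s)).map α ≠ 1) {X : Over S} (x : (Γ(X.left, ⊤))ˣ) (y : Γ(X.left, ⊤))
    (h : InCell i pp pm (rt pp (x : Γ(X.left, ⊤)) * rt pm y)) :
    InCell i pp pm (rt pp 1 * rt pm ((x : Γ(X.left, ⊤)) * y)) := by
  haveI := st.mon_α
  haveI := st.mon_i
  obtain ⟨X', π, _, _, t, ht⟩ := exists_lift hT α hα x
  have ht' : (av' α t : Γ(X'.left, ⊤)) = π.left.appTop (x : Γ(X.left, ⊤)) := ht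
  refine st.inCell_of_surjective π ?_
  obtain ⟨b, s, a, hc⟩ := h.comp π
  rw [MonObj.comp_mul, comp_rt, comp_rt] at hc
  rw [← ht'] at hc
  have h2 := st.cell_conj (fun Y a b => torus_comm hT a b) t⁻¹ b s a
  rw [GrpObj.inv_comp, inv_inv] at h2
  refine ⟨_, _, _, (?_ : _ = (t ≫ i)⁻¹ * cell i pp pm b s a * (t ≫ i)).trans h2⟩
  rw [← hc, MonObj.comp_mul, comp_rt, comp_rt, map_one, map_mul]
  rw [← ht']
  have h3 : rt pm ((av' α t : Γ(X'.left, ⊤)) * π.left.appTop y) = (t ≫ i)⁻¹ * rt pm (π.left.appTop y) * (t ≫ i) := by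
    have := st.conjM t ((av' α t : Γ(X'.left, ⊤)) * π.left.appTop y)
    rw [Units.inv_mul_cancel_left] at this
    rw [← this]
    group
  rw [h3, show rt pp (av' α t : Γ(X'.left, ⊤)) = (t ≫ i) * rt pp 1 * (t ≫ i)⁻¹ by rw [st.conjP, mul_one]]
  group

/-- The first functional equation. -/
theorem Sys.crd_add (st : Sys i α pp pm) (hT : Red.IsTorus T)
    (hα : ∀ s : S, (Over.pullback (Red.geomPt s)).map α ≠ 1) {X : Over S} {u B : Γ(X.left, ⊤)}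
    {a : (Γ(X.left, ⊤))ˣ} {τ : X ⟶ T} (h : Crd i pp pm u a τ B) {v A₂ B₂ : Γ(X.left, ⊤)} {τ₂ : X ⟶ T}
    (h₂ : Crd i pp pm ((a : Γ(X.left, ⊤)) * v) A₂ τ₂ B₂) :
    Crd i pp pm (u + v) ((a : Γ(X.left, ⊤)) * A₂) (τ * τ₂)
      (B + (((av' α τ)⁻¹ : (Γ(X.left, ⊤))ˣ) : Γ(X.left, ⊤)) * (((a⁻¹ : (Γ(X.left, ⊤))ˣ) : Γ(X.left, ⊤)) * B₂)) := by
  haveI := st.mon_i
  haveI := st.mon_pm
  haveI := st.mon_pp
  show rt pp 1 * rt pm (u + v) = _
  rw [rt_add, ← _root_.mul_assoc, (h : rt pp 1 * rt pm u = _)]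
  simp only [cell]
  rw [_root_.mul_assoc (_ * _) (rt pp (a : Γ(X.left, ⊤))), st.crd_scale hT hα a v h₂]
  simp only [cell, rt_add, ← st.conjM, MonObj.mul_comp]
  group

theorem Sys.inCell_of_add (st : Sys i α pp pm) (hT : Red.IsTorus T)
    (hα : ∀ s : S, (Over.pullback (Red.geomPt s)).map α ≠ 1) {X : Over S} {u B : Γ(X.left, ⊤)}
    {a : (Γ(X.left, ⊤))ˣ} {τ : X ⟶ T} (h : Crd i pp pm u a τ B) {v : Γ(X.left, ⊤)}
    (hv : InCell i pp pm (rt pp 1 * rt pm (u + v))) :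
    InCell i pp pm (rt pp 1 * rt pm ((a : Γ(X.left, ⊤)) * v)) := by
  haveI := st.mon_i
  haveI := st.mon_pm
  haveI := st.mon_α
  refine st.inCell_crd_of_inCell hT hα a v ?_
  have h1 := mul_cell_left st ((av' α τ : Γ(X.left, ⊤)) * -B) τ⁻¹ hv
  convert h1 using 1
  rw [rt_add, ← _root_.mul_assoc (rt pp 1), (h : rt pp 1 * rt pm u = _)]
  have h3 : rt pm ((av' α τ : Γ(X.left, ⊤)) * -B) = (τ ≫ i)⁻¹ * rt pm (-B) * (τ ≫ i) := by
    have := st.conjM τ ((av' α τ : Γ(X.left, ⊤)) * -B)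
    rw [Units.inv_mul_cancel_left] at this
    rw [← this]
    group
  simp only [cell, h3, rt_neg, GrpObj.inv_comp]
  group

/-- The second functional equation. -/
theorem Sys.crd_split (st : Sys i α pp pm) (hT : Red.IsTorus T)
    (hα : ∀ s : S, (Over.pullback (Red.geomPt s)).map α ≠ 1) {X : Over S} {u A B : Γ(X.left, ⊤)} {τ : X ⟶ T}
    (h : Crd i pp pm u A τ B) (s s' : (Γ(X.left, ⊤))ˣ) (hs : (s' : Γ(X.left, ⊤)) = 1 + s) {A₃ B₃ A₄ B₄ : Γ(X.left, ⊤)}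
    {τ₃ τ₄ : X ⟶ T} (h₃ : Crd i pp pm ((s' : Γ(X.left, ⊤)) * u) A₃ τ₃ B₃)
    (h₄ : Crd i pp pm ((s : Γ(X.left, ⊤)) * B) A₄ τ₄ B₄) :
    (s' : Γ(X.left, ⊤)) * A₃ =
        A + (((av' α τ)⁻¹ : (Γ(X.left, ⊤))ˣ) : Γ(X.left, ⊤)) * ((s : Γ(X.left, ⊤)) * A₄) ∧ τ₃ = τ₄ * τ ∧
      ((s'⁻¹ : (Γ(X.left, ⊤))ˣ) : Γ(X.left, ⊤)) * B₃ = ((s⁻¹ : (Γ(X.left, ⊤))ˣ) : Γ(X.left, ⊤)) * B₄ := by
  haveI := st.mon_i
  haveI := st.mon_pp
  haveI := st.mon_α
  have e : rt pp (s' : Γ(X.left, ⊤)) * rt pm u =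
      cell i pp pm (((s⁻¹ : (Γ(X.left, ⊤))ˣ) : Γ(X.left, ⊤)) * B₄) (τ₄ * τ)
        ((((av' α τ)⁻¹ : (Γ(X.left, ⊤))ˣ) : Γ(X.left, ⊤)) * ((s : Γ(X.left, ⊤)) * A₄) + A) := by
    rw [hs, add_comm 1, rt_add, _root_.mul_assoc, (h : rt pp 1 * rt pm u = _)]
    simp only [cell]
    rw [← _root_.mul_assoc, ← _root_.mul_assoc, st.crd_scale hT hα s B h₄]
    simp only [cell, rt_add, ← av'_inv', ← st.conjP, GrpObj.inv_comp, MonObj.mul_comp]
    group
  rw [st.crd_scale hT hα s' u h₃] at e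
  obtain ⟨e1, e2, e3⟩ := st.cell_inj e
  exact ⟨e3.trans (add_comm _ _), e2, e1⟩

/-- The first coordinate is a unit. -/
theorem Sys.isUnit_crd (st : Sys i α pp pm) {X : Over S} {u A B : Γ(X.left, ⊤)} {τ : X ⟶ T}
    (h : Crd i pp pm u A τ B) : IsUnit A := by
  haveI := st.mon_i
  haveI := st.mon_pp
  haveI := st.mon_pm
  refine isUnit_of_field A fun K _ _ a p h0 => ?_
  let R := Γ((fieldPt K a).left, ⊤)
  have h1 := h.comp p
  rw [h0] at h1
  set u₁ := p.left.appTop u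
  set B₁ := p.left.appTop B
  set τ₁ := p ≫ τ
  have h2 : Crd i pp pm (0 : R) 0 τ₁ (B₁ + (((av' α τ₁)⁻¹ : Rˣ) : R) * -u₁) := by
    show rt pp 1 * rt pm (0 : R) = _
    rw [show rt pm (0 : R) = rt pm u₁ * rt pm (-u₁) by rw [← rt_add, add_neg_cancel], ← _root_.mul_assoc, (h1 : rt pp 1 * rt pm u₁ = _)]
    simp only [cell, rt_zero, _root_.mul_one]
    rw [rt_add, ← st.conjM]
    group
  haveI : Nontrivial R := (fieldFn K a).toEquiv.nontrivial
  exact zero_ne_one (st.crd_unique h2 st.crd_zero).1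

end Groth.Agent.BigCell
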