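import Groth.Agent.CorootLib.Series

/-!
# The cell over an algebraically closed field point

The points `w` with `p₊(1) p₋(w)` outside the cell form a set with one element `z`, and `c₁ z = 1`; if there were
none, the two root groups would commute.
-/

set_option autoImplicit false
set_option maxHeartbeats 1000000
universe u

open CategoryTheory CategoryTheory.Limits MonoidalCategory CartesianMonoidalCategory AlgebraicGeometry
open Groth.Agent.GaPts
open scoped MonObj

noncomputable section

namespace Groth.Agent.BigCell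

open Groth.Agent.HomRep (bcEquiv bcEquiv_mul bcEquiv_symm_mul)

/-- Constants in a localised polynomial ring. -/
abbrev locC {R : Type u} [CommRing R] (g : Polynomial R) : R →+* Localization.Away g :=
  (algebraMap (Polynomial R) (Localization.Away g)).comp Polynomial.C

/-- The variable in a localised polynomial ring. -/
abbrev locX {R : Type u} [CommRing R] (g : Polynomial R) : Localization.Away g :=
  algebraMap (Polynomial R) (Localization.Away g) Polynomial.X

variable {S : Scheme.{u}} {G T : Over S} [GrpObj G] [GrpObj T] {i : T ⟶ G} {α : T ⟶ Red.Gm S}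
    {pp pm : Red.Ga S ⟶ G}

instance isAffine_fieldPt (K : Type u) [Field K] (a : Spec (CommRingCat.of K) ⟶ S) : IsAffine (fieldPt K a).left :=
  inferInstanceAs (IsAffine (Spec (CommRingCat.of K)))

instance isDomain_fieldPt (K : Type u) [Field K] (a : Spec (CommRingCat.of K) ⟶ S) :
    IsDomain Γ((fieldPt K a).left, ⊤) :=
  MulEquiv.isDomain K (fieldFn K a).toMulEquiv

instance infinite_fieldPt (K : Type u) [Field K] [IsAlgClosed K] (a : Spec (CommRingCat.of K) ⟶ S) :
    Infinite Γ((fieldPt K a).left, ⊤) :=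
  Infinite.of_injective _ (fieldFn K a).symm.injective

instance isIso_affMap_id (X : Over S) [IsAffine X.left] : IsIso (affMap X (RingHom.id Γ(X.left, ⊤))).left := by
  show IsIso (Spec.map (CommRingCat.ofHom (RingHom.id Γ(X.left, ⊤))) ≫ X.left.isoSpec.inv)
  rw [CommRingCat.ofHom_id]
  haveI : IsIso (Spec.map (𝟙 (CommRingCat.of Γ(X.left, ⊤)))) := by rw [Spec.map_id]; infer_instance
  infer_instance

theorem Sys.crd_ring_unique (st : Sys i α pp pm) {X : Over S} [IsAffine X.left] {B : Type u} [CommRing B]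
    {φ : Γ(X.left, ⊤) →+* B} {u A A' : B} {b b' : Γ((affPt X φ).left, ⊤)} {τ τ' : affPt X φ ⟶ T}
    (h : Crd i pp pm (affVal X φ u) (affVal X φ A) τ b) (h' : Crd i pp pm (affVal X φ u) (affVal X φ A') τ' b') :
    A = A' :=
  affVal_injective X φ (st.crd_unique h h').1

/-- Evaluate a family over a ring at a point of the base. -/
theorem Sys.crd_eval (st : Sys i α pp pm) {X : Over S} [IsAffine X.left] {B : Type u} [CommRing B]
    {φ : Γ(X.left, ⊤) →+* B} {U A Bc : B} {τ : affPt X φ ⟶ T}
    (h : Crd i pp pm (affVal X φ U) (affVal X φ A) τ (affVal X φ Bc)) (ψ : B →+* Γ(X.left, ⊤))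
    (hψ : ψ.comp φ = RingHom.id _) :
    ∃ τ₀ : X ⟶ T, Crd i pp pm (ψ U) (ψ A) τ₀ (ψ Bc) ∧
      ∃ r : affPt X (RingHom.id Γ(X.left, ⊤)) ⟶ affPt X φ, affMap X (RingHom.id _) ≫ τ₀ = r ≫ τ ∧
        ∀ b, r.left.appTop (affVal X φ b) = affVal X (RingHom.id Γ(X.left, ⊤)) (ψ b) := by
  obtain ⟨r, hr⟩ := exists_affPoint' (X := X) φ (RingHom.id _) ψ hψ
  have h1 := h.comp r
  rw [hr, hr, hr] at h1
  let π := affMap X (RingHom.id Γ(X.left, ⊤))
  haveI : Surjective π.left := inferInstance
  haveI : Flat π.left := inferInstance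
  haveI := epi_of_flat π
  have hπ : ∀ c, π.left.appTop c = affVal X (RingHom.id Γ(X.left, ⊤)) c := affMap_appTop X (RingHom.id _)
  have hin : InCell i pp pm (rt pp 1 * rt pm (ψ U)) := by
    refine st.inCell_of_surjective π ?_
    rw [MonObj.comp_mul, comp_rt, comp_rt, map_one, hπ]
    exact h1.inCell
  obtain ⟨A₀, τ₀, B₀, h0⟩ := exists_crd hin
  have h2 := h0.comp π
  rw [hπ, hπ, hπ] at h2
  obtain ⟨eA, eτ, eB⟩ := st.crd_unique h2 h1
  exact ⟨τ₀, by rwa [← affVal_injective _ _ eA, ← affVal_injective _ _ eB], r, eτ, hr⟩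

/-- The locus where the family over polynomials lies in the cell contains a standard open around `0`. -/
theorem Sys.exists_basic (st : Sys i α pp pm) {X : Over S} [IsAffine X.left] [IsDomain Γ(X.left, ⊤)] :
    ∃ g : Polynomial Γ(X.left, ⊤), g.eval 0 ≠ 0 ∧
      InCell i pp pm (rt pp 1 * rt pm (affVal X (locC g) (locX g))) := by
  haveI := st.hΩ
  haveI := st.mon_pm
  haveI := st.mon_i
  let R := Γ(X.left, ⊤)
  let f := rt pp 1 * rt pm (affVal X (Polynomial.C (R := R)) Polynomial.X)
  let O : (affPt X (Polynomial.C (R := R))).left.Opens := f.left ⁻¹ᵁ (cellHom i pp pm).left.opensRange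
  have h0 : (Polynomial.evalRingHom (0 : R)).comp Polynomial.C = RingHom.id R :=
    RingHom.ext fun r => Polynomial.eval_C
  obtain ⟨r, hr, -, hrv⟩ := exists_affPoint (Y := X) (Polynomial.C (R := R)) (Polynomial.evalRingHom (0 : R))
  let w₀ : PrimeSpectrum R := ⟨⊥, Ideal.isPrime_bot⟩
  let w : (affPt X ((Polynomial.evalRingHom (0 : R)).comp Polynomial.C)).left := w₀
  have hrg : InCell i pp pm (r ≫ f) := by
    refine ⟨0, 1, 1, ?_⟩
    rw [MonObj.comp_mul, comp_rt, comp_rt, map_one, hrv, Polynomial.coe_evalRingHom, Polynomial.eval_X, map_zero]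
    simp only [cell, rt_zero, MonObj.one_comp, _root_.mul_one, _root_.one_mul]
  have h1 : r.left w ∈ O := by
    have h := (inCell_iff_range st.hΩ (r ≫ f)).1 hrg ⟨w, rfl⟩
    rw [show (r ≫ f).left w = f.left (r.left w) from Scheme.Hom.comp_apply r.left f.left w] at h
    exact h
  let q : PrimeSpectrum (Polynomial R) := PrimeSpectrum.comap (Polynomial.evalRingHom (0 : R)) w₀
  have h2 : r.left w = q := by rw [hr]; rfl
  rw [h2] at h1
  obtain ⟨_, ⟨g, rfl⟩, hg, hgO⟩ := PrimeSpectrum.isTopologicalBasis_basic_opens.exists_subset_of_mem_open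
    (show q ∈ ((O : Set (affPt X (Polynomial.C (R := R))).left) : Set (PrimeSpectrum (Polynomial R))) from h1) O.isOpen
  refine ⟨g, fun e => hg ?_, ?_⟩
  · show Polynomial.evalRingHom (0 : R) g ∈ (⊥ : Ideal R)
    simpa using e
  obtain ⟨ρ, hρ⟩ := exists_affPoint_map (𝟙 X) (Polynomial.C (R := R))
    ((algebraMap (Polynomial R) (Localization.Away g)).comp Polynomial.C) (algebraMap _ _)
    (by rw [Over.id_left, Scheme.Hom.id_appTop]; rfl)
  obtain ⟨ρ', hρ', -, hρv⟩ := exists_affPoint (Y := X) (Polynomial.C (R := R))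
    (algebraMap (Polynomial R) (Localization.Away g))
  rw [← hρv, ← map_one ρ'.left.appTop.hom, ← comp_rt, ← comp_rt, ← MonObj.comp_mul]
  refine (inCell_iff_range st.hΩ (ρ' ≫ f)).2 ?_
  rintro _ ⟨x, rfl⟩
  rw [show (ρ' ≫ f).left x = f.left (ρ'.left x) from Scheme.Hom.comp_apply ρ'.left f.left x]
  have hx : PrimeSpectrum.comap (algebraMap (Polynomial R) (Localization.Away g)) x ∈
      ((PrimeSpectrum.basicOpen g : TopologicalSpace.Opens (PrimeSpectrum (Polynomial R))) :
        Set (PrimeSpectrum (Polynomial R))) := by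
    rw [← PrimeSpectrum.localization_away_comap_range (Localization.Away g) g]
    exact ⟨x, rfl⟩
  have e : ρ'.left x = PrimeSpectrum.comap (algebraMap (Polynomial R) (Localization.Away g)) x := by rw [hρ']; rfl
  rw [e]
  exact hgO hx

theorem Sys.exists_family (st : Sys i α pp pm) {X : Over S} [IsAffine X.left] [IsDomain Γ(X.left, ⊤)] :
    ∃ (g : Polynomial Γ(X.left, ⊤)) (A B : Localization.Away g)
      (τ : affPt X (locC g) ⟶ T),
      g.eval 0 ≠ 0 ∧
        Crd i pp pm (affVal X _ (locX g)) (affVal X _ A) τ (affVal X _ B) := by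
  obtain ⟨g, hg, hin⟩ := st.exists_basic (X := X)
  obtain ⟨A, τ, B, h⟩ := exists_crd hin
  obtain ⟨A, rfl⟩ := affVal_surjective X _ A
  obtain ⟨B, rfl⟩ := affVal_surjective X _ B
  exact ⟨g, A, B, τ, hg, h⟩

section Field

variable {K : Type u} [Field K] [IsAlgClosed K] {a : Spec (CommRingCat.of K) ⟶ S}

set_option quotPrecheck false in
local notation "R₀" => Γ((fieldPt K a).left, ⊤)

theorem isUnit_field {c : R₀} (hc : c ≠ 0) : IsUnit c := isUnit_of_ne_zero hc

/-- The points outside the cell. -/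
def Bad (i : T ⟶ G) (pp pm : Red.Ga S ⟶ G) : Set R₀ := {w | ¬ InCell i pp pm (rt pp 1 * rt pm w)}

theorem Sys.eval_family (st : Sys i α pp pm) {g : Polynomial R₀} {A B : Localization.Away g}
    {τ : affPt (fieldPt K a) (locC g) ⟶ T}
    (h : Crd i pp pm (affVal _ _ (locX g)) (affVal _ _ A) τ (affVal _ _ B)) (w : R₀)
    (hw : g.eval w ≠ 0) :
    ∃ τ₀ : fieldPt K a ⟶ T,
      Crd i pp pm w (IsLocalization.Away.lift g (g := Polynomial.evalRingHom w) (isUnit_field hw) A) τ₀
        (IsLocalization.Away.lift g (g := Polynomial.evalRingHom w) (isUnit_field hw) B) := by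
  let ψ : Localization.Away g →+* R₀ := IsLocalization.Away.lift g (g := Polynomial.evalRingHom w) (isUnit_field hw)
  have hψ : ∀ p : Polynomial R₀, ψ (algebraMap _ _ p) = p.eval w := fun p => IsLocalization.Away.lift_eq g _ p
  obtain ⟨τ₀, h0, -⟩ := st.crd_eval h ψ (RingHom.ext fun r => by
    rw [RingHom.comp_apply, RingHom.comp_apply, hψ, Polynomial.eval_C]; rfl)
  rw [show ψ (locX g) = Polynomial.X.eval w from hψ _, Polynomial.eval_X] at h0
  exact ⟨τ₀, h0⟩

theorem Sys.finite_bad (st : Sys i α pp pm) : (Bad (K := K) (a := a) i pp pm).Finite := by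
  obtain ⟨g, A, B, τ, hg, h⟩ := st.exists_family (X := fieldPt K a)
  have hg0 : g ≠ 0 := fun e => hg (by rw [e, Polynomial.eval_zero])
  refine (Polynomial.finite_setOf_isRoot hg0).subset fun w hw => ?_
  by_contra hne
  obtain ⟨τ₀, h0⟩ := st.eval_family h w hne
  exact hw h0.inCell

theorem Sys.bad_sub (st : Sys i α pp pm) (hT : Red.IsTorus T)
    (hα : ∀ s : S, (Over.pullback (Red.geomPt s)).map α ≠ 1) {u A B : R₀} {τ : fieldPt K a ⟶ T}
    (h : Crd i pp pm u A τ B) {z : R₀} (hz : z ∈ Bad (K := K) (a := a) i pp pm) :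
    A * (z - u) ∈ Bad (K := K) (a := a) i pp pm := by
  obtain ⟨x, rfl⟩ := st.isUnit_crd h
  intro hin
  obtain ⟨A₂, τ₂, B₂, h2⟩ := exists_crd hin
  refine hz ?_
  have := (st.crd_add hT hα h h2).inCell
  rwa [add_sub_cancel] at this

theorem Sys.subsingleton_bad (st : Sys i α pp pm) (hT : Red.IsTorus T)
    (hα : ∀ s : S, (Over.pullback (Red.geomPt s)).map α ≠ 1) : (Bad (K := K) (a := a) i pp pm).Subsingleton := by
  classical
  intro z₁ h₁ z₂ h₂
  by_contra hne
  let D : Set R₀ := (Bad (K := K) (a := a) i pp pm)ᶜ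
  have hD : D.Infinite := st.finite_bad.infinite_compl
  have hA : ∀ u : D, ∃ A τ B, Crd i pp pm (u : R₀) A τ B := fun u => exists_crd (not_not.1 u.2)
  choose A τ B hAB using hA
  let E := Bad (K := K) (a := a) i pp pm
  haveI : Infinite D := hD.to_subtype
  haveI : Finite E := st.finite_bad.to_subtype
  obtain ⟨u, u', huu, he⟩ := Finite.exists_ne_map_eq_of_infinite
    (fun u : D => ((⟨A u * (z₁ - u), st.bad_sub hT hα (hAB u) h₁⟩ : E), (⟨A u * (z₂ - u), st.bad_sub hT hα (hAB u) h₂⟩ : E)))
  rw [Prod.mk.injEq, Subtype.mk.injEq, Subtype.mk.injEq] at he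
  have e1 : (A u - A u') * (z₁ - z₂) = 0 := by linear_combination he.1 - he.2
  rw [mul_eq_zero, sub_eq_zero, sub_eq_zero] at e1
  have e2 := e1.resolve_right hne
  have e3 : A u * ((u' : R₀) - u) = 0 := by linear_combination he.1 + ((u' : R₀) - z₁) * e2
  rw [mul_eq_zero, sub_eq_zero] at e3
  exact huu (Subtype.ext (e3.resolve_left (st.isUnit_crd (hAB u)).ne_zero).symm)

/-- A point outside the cell is the inverse of the linear coefficient. -/
theorem Sys.c1_mul_bad (st : Sys i α pp pm) (hT : Red.IsTorus T)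
    (hα : ∀ s : S, (Over.pullback (Red.geomPt s)).map α ≠ 1) {z : R₀} (hz : z ∈ Bad (K := K) (a := a) i pp pm) :
    c1 st (fieldPt K a) * z = 1 := by
  have hz0 : z ≠ 0 := fun e => hz (e ▸ st.crd_zero.inCell)
  obtain ⟨g, A, B, τ, hg, h⟩ := st.exists_family (X := fieldPt K a)
  obtain ⟨⟨P, s⟩, hs⟩ := IsLocalization.surj (Submonoid.powers g) A
  obtain ⟨n, hn⟩ := s.2
  change A * algebraMap _ _ (s : Polynomial R₀) = algebraMap _ _ P at hs
  rw [← hn] at hs
  -- the rational function at the good points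
  have hpt : ∀ w : R₀, g.eval w ≠ 0 → P.eval w * (z - w) = z * g.eval w ^ n := by
    intro w hw
    obtain ⟨τ₀, h0⟩ := st.eval_family h w hw
    set ψ : Localization.Away g →+* R₀ := IsLocalization.Away.lift g (g := Polynomial.evalRingHom w) (isUnit_field hw)
    have hψ : ∀ p : Polynomial R₀, ψ (algebraMap _ _ p) = p.eval w := fun p => IsLocalization.Away.lift_eq g _ p
    have e1 : ψ A * (z - w) = z := st.subsingleton_bad hT hα (st.bad_sub hT hα h0 hz) hz
    have e2 := congrArg ψ hs
    rw [map_mul, hψ, hψ, Polynomial.eval_pow] at e2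
    linear_combination g.eval w ^ n * e1 - (z - w) * e2
  have hpol : P * (Polynomial.C z - Polynomial.X) = Polynomial.C z * g ^ n := by
    refine Polynomial.eq_of_infinite_eval_eq _ _ ?_
    have hg0 : g ≠ 0 := fun e => hg (by rw [e, Polynomial.eval_zero])
    refine (Polynomial.finite_setOf_isRoot hg0).infinite_compl.mono fun w hw => ?_
    simp only [Set.mem_setOf_eq, Polynomial.eval_mul, Polynomial.eval_sub, Polynomial.eval_C, Polynomial.eval_X,
      Polynomial.eval_pow]
    exact hpt w hw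
  -- on power series
  let co : Polynomial R₀ →+* PowerSeries R₀ := Polynomial.coeToPowerSeries.ringHom
  have hgu : IsUnit (co g) := by
    rw [PowerSeries.isUnit_iff_constantCoeff]
    show IsUnit (PowerSeries.constantCoeff (g : PowerSeries R₀))
    rw [Polynomial.constantCoeff_coe, Polynomial.coeff_zero_eq_eval_zero]
    exact isUnit_field hg
  let ψ : Localization.Away g →+* PowerSeries R₀ := IsLocalization.Away.lift g (g := co) hgu
  have hψ : ∀ p : Polynomial R₀, ψ (algebraMap _ _ p) = co p := fun p => IsLocalization.Away.lift_eq g _ p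
  obtain ⟨r, hr⟩ := exists_affPoint' (X := fieldPt K a)
    (locC g) PowerSeries.C ψ
    (RingHom.ext fun c => by rw [RingHom.comp_apply, RingHom.comp_apply, hψ]; exact Polynomial.coe_C c)
  have h1 := h.comp r
  rw [hr, hr, show ψ (locX g) = co Polynomial.X from hψ _] at h1
  obtain ⟨τF, bF, hF⟩ := st.crd_ser (fieldPt K a) PowerSeries.C (RingHom.id _) (RingHom.id_comp _)
  have hA : ψ A = ser st (fieldPt K a) := by
    rw [show co Polynomial.X = (PowerSeries.X : PowerSeries R₀) from Polynomial.coe_X] at h1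
    exact st.crd_ring_unique (u := PowerSeries.X) h1 hF
  have e2 := congrArg ψ hs
  rw [map_mul, hψ, hψ, hA, map_pow] at e2
  have e3 := congrArg co hpol
  rw [map_mul, map_mul, map_sub, map_pow, ← e2] at e3
  rw [show co (Polynomial.C z) = PowerSeries.C z from Polynomial.coe_C z,
    show co Polynomial.X = (PowerSeries.X : PowerSeries R₀) from Polynomial.coe_X] at e3
  have e4 : ser st (fieldPt K a) * (PowerSeries.C z - PowerSeries.X) = PowerSeries.C z := by
    refine (hgu.pow n).mul_right_cancel ?_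
    linear_combination e3
  have e5 := congrArg (PowerSeries.coeff 1) e4
  rw [mul_sub, mul_comm, map_sub, PowerSeries.coeff_C_mul, mul_comm _ PowerSeries.X, PowerSeries.coeff_succ_X_mul,
    PowerSeries.coeff_zero_eq_constantCoeff_apply, st.constantCoeff_ser, PowerSeries.coeff_C, if_neg one_ne_zero,
    sub_eq_zero] at e5
  rw [mul_comm]
  exact e5

end Field

end Groth.Agent.BigCell
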