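import Groth.Agent.CorootLib.Field

/-!
# If the cell contains all `p₊(1) p₋(w)`, the root groups commute
-/

set_option autoImplicit false
set_option maxHeartbeats 1000000
universe u

open CategoryTheory CategoryTheory.Limits MonoidalCategory CartesianMonoidalCategory AlgebraicGeometry
open Groth.Agent.GaPts
open scoped MonObj

noncomputable section

namespace Groth.Agent.BigCell

variable {S : Scheme.{u}} {G T : Over S} [GrpObj G] [GrpObj T] {i : T ⟶ G} {α : T ⟶ Red.Gm S}
    {pp pm : Red.Ga S ⟶ G} {K : Type u} [Field K] [IsAlgClosed K] {a : Spec (CommRingCat.of K) ⟶ S}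

set_option quotPrecheck false in
local notation "R₀" => Γ((fieldPt K a).left, ⊤)

theorem exists_polynomial_root (f : Polynomial R₀) (hf : ¬ IsUnit f) : ∃ w : R₀, f.eval w = 0 := by
  letI : Field R₀ := (isField_fieldPt K a).toField
  haveI : IsAlgClosed R₀ := IsAlgClosed.of_ringEquiv K R₀ (fieldFn K a).symm
  refine IsAlgClosed.exists_root f fun hd => hf ?_
  exact Polynomial.isUnit_iff_degree_eq_zero.2 hd

theorem principal_maximal (m : Ideal (Polynomial R₀)) [m.IsMaximal] :
    ∃ w : R₀, m = RingHom.ker (Polynomial.evalRingHom w) := by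
  letI : Field R₀ := (isField_fieldPt K a).toField
  obtain ⟨f, hf⟩ := (IsPrincipalIdealRing.principal m).1
  have hfu : ¬ IsUnit f := fun hu => Ideal.IsPrime.ne_top' (I := m)
    (Ideal.eq_top_of_isUnit_mem _ (by rw [hf]; exact Ideal.mem_span_singleton_self f) hu)
  obtain ⟨w, hw⟩ := exists_polynomial_root f hfu
  refine ⟨w, Ideal.IsMaximal.eq_of_le inferInstance (RingHom.ker_ne_top _) fun g hg => ?_⟩
  rw [hf] at hg
  obtain ⟨c, rfl⟩ := Ideal.mem_span_singleton'.1 hg
  rw [RingHom.mem_ker, map_mul, Polynomial.coe_evalRingHom, hw, mul_zero]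

theorem Sys.inCell_poly (st : Sys i α pp pm) (hall : ∀ w : R₀, InCell i pp pm (rt pp 1 * rt pm w)) :
    InCell i pp pm (rt pp 1 * rt pm (affVal (fieldPt K a) (Polynomial.C (R := R₀)) Polynomial.X)) := by
  haveI := st.hΩ
  let f := rt pp 1 * rt pm (affVal (fieldPt K a) (Polynomial.C (R := R₀)) Polynomial.X)
  refine (inCell_iff_range st.hΩ f).2 ?_
  rintro _ ⟨p, rfl⟩
  let O : (affPt (fieldPt K a) (Polynomial.C (R := R₀))).left.Opens := f.left ⁻¹ᵁ (cellHom i pp pm).left.opensRange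
  show p ∈ O
  let q : PrimeSpectrum (Polynomial R₀) := p
  obtain ⟨m, hm, hpm⟩ := q.asIdeal.exists_le_maximal q.isPrime.ne_top
  haveI := hm
  obtain ⟨w, hw⟩ := principal_maximal m
  obtain ⟨r, hr, hrm, hrv⟩ := exists_affPoint (Y := fieldPt K a) (Polynomial.C (R := R₀)) (Polynomial.evalRingHom w)
  have hrg : InCell i pp pm (r ≫ f) := by
    rw [MonObj.comp_mul, comp_rt, comp_rt, map_one, hrv, Polynomial.coe_evalRingHom, Polynomial.eval_X]
    have h := (hall w).comp (affMap (fieldPt K a) ((Polynomial.evalRingHom w).comp Polynomial.C))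
    rw [MonObj.comp_mul, comp_rt, comp_rt, map_one, affMap_appTop, RingHom.comp_apply, Polynomial.coe_evalRingHom,
      Polynomial.eval_C] at h
    exact h
  let x₀ : PrimeSpectrum R₀ := ⟨⊥, Ideal.isPrime_bot⟩
  let x : (affPt (fieldPt K a) ((Polynomial.evalRingHom w).comp Polynomial.C)).left := x₀
  have h1 : r.left x ∈ O := by
    have h := (inCell_iff_range st.hΩ (r ≫ f)).1 hrg ⟨x, rfl⟩
    rw [show (r ≫ f).left x = f.left (r.left x) from Scheme.Hom.comp_apply r.left f.left x] at h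
    exact h
  let m' : PrimeSpectrum (Polynomial R₀) := ⟨m, hm.isPrime⟩
  have h2 : r.left x = m' := by
    rw [hr]
    refine PrimeSpectrum.ext ?_
    show Ideal.comap (Polynomial.evalRingHom w) ⊥ = m
    rw [hw]
    rfl
  rw [h2] at h1
  exact O.isOpen.stableUnderGeneralization ((PrimeSpectrum.le_iff_specializes q m').1 hpm) h1

/-- A torus point over the affine line over the field is constant. -/
theorem torusPoint_const {P : Scheme.{u}} (p : P ⟶ S) {M : Type} [AddCommGroup M]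
    (j : Red.DS P M ≅ Red.bc p T) (q : Spec (CommRingCat.of K) ⟶ P) (hq : q ≫ p = a)
    (t : affPt (fieldPt K a) (Polynomial.C (R := R₀)) ⟶ T)
    (r : affPt (fieldPt K a) (Polynomial.C (R := R₀)) ⟶ affPt (fieldPt K a) (Polynomial.C (R := R₀)))
    (hr : r ≫ affMap (fieldPt K a) Polynomial.C = affMap (fieldPt K a) Polynomial.C)
    (hrv : ∀ f : Polynomial R₀, r.left.appTop (affVal _ _ f) = affVal _ _ (Polynomial.C (f.eval 0))) :
    r ≫ t = t := by
  let Y := affPt (fieldPt K a) (Polynomial.C (R := R₀))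
  let Y' : Over P := Over.mk ((affMap (fieldPt K a) (Polynomial.C (R := R₀))).left ≫ q)
  let e : (Over.map p).obj Y' ≅ Y := Over.isoMk (Iso.refl _) (by
    show 𝟙 _ ≫ Y.hom = ((affMap (fieldPt K a) (Polynomial.C (R := R₀))).left ≫ q) ≫ p
    rw [Category.id_comp, Category.assoc, hq]
    exact (Over.w (affMap (fieldPt K a) (Polynomial.C (R := R₀)))).symm)
  let r' : Y' ⟶ Y' := Over.homMk r.left (by
    show r.left ≫ (affMap (fieldPt K a) (Polynomial.C (R := R₀))).left ≫ q = _
    rw [← Category.assoc, ← Over.comp_left, hr]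
    rfl)
  obtain ⟨c, hc⟩ := exists_tau p j (e.hom ≫ t)
  have h1 : r' ≫ c = c := by
    refine MultSubLib.chars_injective ?_
    rw [MultSubLib.chars_comp]
    refine MonoidHom.ext fun m => ?_
    obtain ⟨f, hf⟩ := affVal_surjective (fieldPt K a) (Polynomial.C (R := R₀)) (MultSubLib.chars c m)
    have hu : IsUnit f := by
      have h' : IsUnit (affVal (fieldPt K a) (Polynomial.C (R := R₀)) f) := by
        rw [hf]
        exact (Group.isUnit m).map (MultSubLib.chars c)
      obtain ⟨v, hv⟩ := h'.exists_right_inv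
      obtain ⟨g, rfl⟩ := affVal_surjective (fieldPt K a) (Polynomial.C (R := R₀)) v
      exact IsUnit.of_mul_eq_one g (affVal_injective _ _ (by rw [map_mul, hv, map_one]))
    obtain ⟨k, -, rfl⟩ := Polynomial.isUnit_iff.1 hu
    show r.left.appTop (MultSubLib.chars c m) = MultSubLib.chars c m
    have h2 := hrv (Polynomial.C k)
    rw [Polynomial.eval_C] at h2
    exact (congrArg r.left.appTop hf.symm).trans (h2.trans hf)
  rw [← cancel_epi e.hom, ← Category.assoc]
  have h3 : (Over.map p).map r' ≫ e.hom = e.hom ≫ r := Over.OverMorphism.ext (by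
    show r.left ≫ 𝟙 _ = 𝟙 _ ≫ r.left
    simp)
  rw [← h3, Category.assoc, ← hc, ← tau_comp, h1]

theorem Sys.commute_of_noBad (st : Sys i α pp pm) (hT : Red.IsTorus T)
    (hα : ∀ s : S, (Over.pullback (Red.geomPt s)).map α ≠ 1)
    {P : Scheme.{u}} (p : P ⟶ S) {M : Type} [AddCommGroup M]
    (j : Red.DS P M ≅ Red.bc p T) (q : Spec (CommRingCat.of K) ⟶ P) (hq : q ≫ p = a)
    (hall : ∀ w : R₀, InCell i pp pm (rt pp 1 * rt pm w)) {X : Over S} (π : X ⟶ fieldPt K a)
    (x y : Γ(X.left, ⊤)) : rt pp x * rt pm y = rt pm y * rt pp x := by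
  haveI := st.mon_i
  haveI := st.mon_pp
  haveI := st.mon_pm
  haveI := st.mon_α
  let φ := Polynomial.C (R := R₀)
  obtain ⟨A, τ, B, h⟩ := exists_crd (st.inCell_poly hall)
  obtain ⟨A, rfl⟩ := affVal_surjective _ _ A
  obtain ⟨B, rfl⟩ := affVal_surjective _ _ B
  have hev : ∀ w : R₀, ∃ τ₀ : fieldPt K a ⟶ T, Crd i pp pm w (A.eval w) τ₀ (B.eval w) ∧
      ∃ r : affPt (fieldPt K a) (RingHom.id _) ⟶ affPt (fieldPt K a) φ,
        affMap (fieldPt K a) (RingHom.id _) ≫ τ₀ = r ≫ τ := fun w => by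
    obtain ⟨τ₀, h0, r, hr, -⟩ := st.crd_eval h (Polynomial.evalRingHom w) (RingHom.ext fun c => Polynomial.eval_C)
    rw [Polynomial.coe_evalRingHom, Polynomial.eval_X] at h0
    exact ⟨τ₀, h0, r, hr⟩
  -- the first coordinate is constant
  have hA : A = 1 := by
    obtain ⟨τ₀, h0, -⟩ := hev 0
    have hu : IsUnit A := by
      by_contra hu
      obtain ⟨w, hw⟩ := exists_polynomial_root A hu
      obtain ⟨τ₁, h1, -⟩ := hev w
      exact (st.isUnit_crd h1).ne_zero hw
    obtain ⟨c, -, rfl⟩ := Polynomial.isUnit_iff.1 hu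
    rw [← map_one Polynomial.C, ← (st.crd_unique h0 st.crd_zero).1, Polynomial.eval_C]
  subst hA
  simp only [Polynomial.eval_one] at hev
  -- the torus coordinate is trivial
  have hτ : τ = 1 := by
    obtain ⟨r, hr, hrv⟩ := exists_affPoint_map (𝟙 (fieldPt K a)) φ φ (φ.comp (Polynomial.evalRingHom 0))
      (RingHom.ext fun c => by simp [φ])
    rw [Category.comp_id] at hr
    have hrv' : ∀ f : Polynomial R₀, r.left.appTop (affVal _ φ f) = affVal _ φ (Polynomial.C (f.eval 0)) := hrv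
    have h1 := h.comp r
    rw [hrv', hrv', hrv', Polynomial.eval_X, Polynomial.eval_one, map_zero, map_zero, map_one, map_one,
      torusPoint_const p j q hq τ r hr hrv'] at h1
    exact (st.crd_unique h1 st.crd_zero).2.1
  subst hτ
  -- the second coordinate
  have hB : B = Polynomial.X := by
    have h0 : B.eval 0 = 0 := by
      obtain ⟨τ₀, h0, -⟩ := hev 0
      exact (st.crd_unique h0 st.crd_zero).2.2
    have hzero : ∀ w : R₀, B.eval w = 0 → w = 0 := fun w hw => by
      obtain ⟨τ₀, h1, -⟩ := hev w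
      have e : rt pm w = cell i pp pm 0 τ₀
          ((((av' α τ₀)⁻¹ : R₀ˣ) : R₀) * (-1) + 1) := by
        rw [← inv_mul_cancel_left (rt pp (1 : R₀)) (rt pm w), (h1 : rt pp 1 * rt pm w = _), hw]
        simp only [cell, rt_zero, _root_.one_mul, rt_add, ← av'_inv', ← st.conjP, rt_neg, GrpObj.inv_comp]
        group
      exact (st.cell_inj (t := (1 : fieldPt K a ⟶ T)) (x := 0)
        ((show cell i pp pm w 1 0 = rt pm w by simp only [cell, rt_zero, MonObj.one_comp, _root_.mul_one]).trans e)).1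
    have hne : B ≠ 0 := fun e => one_ne_zero (hzero 1 (by rw [e, Polynomial.eval_zero]))
    have hτ₀ : ∀ w : R₀, ∀ τ₀ : fieldPt K a ⟶ T, Crd i pp pm w 1 τ₀ (B.eval w) → av' α τ₀ = 1 := fun w τ₀ hc => by
      obtain ⟨τ', hc', r, hr⟩ := hev w
      haveI : Surjective (affMap (fieldPt K a) (RingHom.id R₀)).left := inferInstance
      haveI : Flat (affMap (fieldPt K a) (RingHom.id R₀)).left := inferInstance
      haveI := epi_of_flat (affMap (fieldPt K a) (RingHom.id R₀))
      rw [MonObj.comp_one] at hr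
      have e : τ' = 1 := by rw [← cancel_epi (affMap (fieldPt K a) (RingHom.id R₀)), hr, MonObj.comp_one]
      rw [(st.crd_unique hc hc').2.1, e, av', MonObj.one_comp, GmPts.unitOfPt_one]
    classical
    obtain ⟨s₀, hs⟩ := Infinite.exists_notMem_finset ({0, -1} : Finset R₀)
    simp only [Finset.mem_insert, Finset.mem_singleton, not_or] at hs
    obtain ⟨s, hsv⟩ := isUnit_of_ne_zero hs.1
    obtain ⟨s', hs'⟩ := isUnit_of_ne_zero (c := 1 + s₀) (fun e => hs.2 (by linear_combination e))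
    have hsplit : ∀ w : R₀, ((s'⁻¹ : R₀ˣ) : R₀) * B.eval ((s' : R₀) * w) =
        ((s⁻¹ : R₀ˣ) : R₀) * B.eval ((s : R₀) * B.eval w) := fun w => by
      obtain ⟨τ₁, h1, -⟩ := hev w
      obtain ⟨τ₃, h3, -⟩ := hev ((s' : R₀) * w)
      obtain ⟨τ₄, h4, -⟩ := hev ((s : R₀) * B.eval w)
      exact (st.crd_split hT hα h1 s s' (by rw [hs', hsv]) h3 h4).2.2
    have hpol : Polynomial.C ((s'⁻¹ : R₀ˣ) : R₀) * B.comp (Polynomial.C (s' : R₀) * Polynomial.X) =
        Polynomial.C ((s⁻¹ : R₀ˣ) : R₀) * B.comp (Polynomial.C (s : R₀) * B) :=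
      Polynomial.funext fun w => by simpa using hsplit w
    have hd := congrArg Polynomial.natDegree hpol
    rw [Polynomial.natDegree_C_mul (Units.ne_zero _), Polynomial.natDegree_C_mul (Units.ne_zero _),
      Polynomial.natDegree_comp, Polynomial.natDegree_comp, Polynomial.natDegree_C_mul (Units.ne_zero _),
      Polynomial.natDegree_C_mul (Units.ne_zero _), Polynomial.natDegree_X, mul_one] at hd
    have hd1 : B.natDegree ≤ 1 := by
      rcases Nat.eq_zero_or_pos B.natDegree with h' | h'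
      · omega
      · exact le_of_eq ((Nat.eq_of_mul_eq_mul_left h' (by rw [mul_one]; exact hd)).symm)
    obtain ⟨b₁, b₀, rfl⟩ := Polynomial.exists_eq_X_add_C_of_natDegree_le_one hd1
    simp only [Polynomial.eval_add, Polynomial.eval_mul, Polynomial.eval_C, Polynomial.eval_X, mul_zero, zero_add] at h0
    subst h0
    rw [map_zero, add_zero] at hne hpol hzero hsplit hτ₀ hev ⊢
    have hb : b₁ ≠ 0 := fun e => hne (by rw [e, map_zero, zero_mul])
    have e := hsplit 1
    simp only [Polynomial.eval_mul, Polynomial.eval_C, Polynomial.eval_X, mul_one] at e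
    have e' : b₁ * b₁ = b₁ * 1 := by
      linear_combination -e + b₁ * s'.inv_mul - b₁ * b₁ * s.inv_mul
    rw [mul_left_cancel₀ hb e', map_one, one_mul]
  subst hB
  -- `p₊(1)` commutes with `p₋`
  have key : ∀ (Y : Over S) (_ : IsAffine Y.left) (_ : Y ⟶ fieldPt K a) (u : Γ(Y.left, ⊤)),
      rt pp 1 * rt pm u = rt pm u * rt pp 1 := by
    intro Y _ ρ u
    let ψ : Polynomial R₀ →+* Γ(Y.left, ⊤) := Polynomial.eval₂RingHom ρ.left.appTop.hom u
    obtain ⟨r, -, hrv⟩ := exists_affPoint_map ρ φ (RingHom.id Γ(Y.left, ⊤)) ψ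
      (RingHom.ext fun c => by simp [ψ, φ])
    haveI : Surjective (affMap Y (RingHom.id Γ(Y.left, ⊤))).left := inferInstance
    haveI : Flat (affMap Y (RingHom.id Γ(Y.left, ⊤))).left := inferInstance
    haveI := epi_of_flat (affMap Y (RingHom.id Γ(Y.left, ⊤)))
    have h1 := h.comp r
    rw [hrv, map_one, map_one, MonObj.comp_one, show ψ Polynomial.X = u from Polynomial.eval₂_X _ _] at h1
    rw [← cancel_epi (affMap Y (RingHom.id Γ(Y.left, ⊤))), MonObj.comp_mul, MonObj.comp_mul, comp_rt, comp_rt,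
      map_one, affMap_appTop, RingHom.id_apply, (h1 : rt pp 1 * rt pm _ = _)]
    simp only [cell, MonObj.one_comp, _root_.mul_one]
  have key' : ∀ (Y : Over S) (_ : Y ⟶ fieldPt K a) (u : Γ(Y.left, ⊤)), rt pp 1 * rt pm u = rt pm u * rt pp 1 :=
    fun Y ρ u => eq_of_affine fun Z σ hZ => by
      rw [MonObj.comp_mul, MonObj.comp_mul, comp_rt, comp_rt, map_one]
      exact key Z hZ (σ ≫ ρ) _
  -- units, and sums of units
  have keyu : ∀ (Y : Over S) (_ : Y ⟶ fieldPt K a) (v : (Γ(Y.left, ⊤))ˣ) (u : Γ(Y.left, ⊤)),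
      rt pp (v : Γ(Y.left, ⊤)) * rt pm u = rt pm u * rt pp (v : Γ(Y.left, ⊤)) := by
    intro Y ρ v u
    obtain ⟨Y', σ, _, _, t, ht⟩ := exists_lift hT α hα v
    haveI := epi_of_flat σ
    have ht' : (av' α t : Γ(Y'.left, ⊤)) = σ.left.appTop (v : Γ(Y.left, ⊤)) := ht
    rw [← cancel_epi σ, MonObj.comp_mul, MonObj.comp_mul, comp_rt, comp_rt, ← ht',
      show rt pp (av' α t : Γ(Y'.left, ⊤)) = (t ≫ i) * rt pp 1 * (t ≫ i)⁻¹ by rw [st.conjP, mul_one],
      show rt pm (σ.left.appTop u) =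
          (t ≫ i) * rt pm ((av' α t : Γ(Y'.left, ⊤)) * σ.left.appTop u) * (t ≫ i)⁻¹ by
        rw [st.conjM, Units.inv_mul_cancel_left]]
    set d : Γ(Y'.left, ⊤) := (av' α t : Γ(Y'.left, ⊤)) * σ.left.appTop u with hd
    have e := key' Y' (σ ≫ ρ) d
    calc (t ≫ i) * rt pp 1 * (t ≫ i)⁻¹ * ((t ≫ i) * rt pm d * (t ≫ i)⁻¹)
        = (t ≫ i) * (rt pp 1 * rt pm d) * (t ≫ i)⁻¹ := by group
      _ = _ := by rw [e]; group
  obtain ⟨X', σ, hσ, s, hs⟩ := exists_param X ![(1 : Γ(X.left, ⊤)), 1] ![x, 0]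
    (fun k => Or.inl (by fin_cases k <;> exact isUnit_one))
  haveI := hσ
  have h0 := hs 0
  have h1 := hs 1
  simp only [Matrix.cons_val_zero, Matrix.cons_val_one, map_one, one_mul, map_zero, add_zero] at h0 h1
  obtain ⟨v₁, hv₁⟩ := h0
  obtain ⟨v₂, hv₂⟩ := h1.neg
  rw [← cancel_epi σ, MonObj.comp_mul, MonObj.comp_mul, comp_rt, comp_rt,
    show σ.left.appTop x = (v₁ : Γ(X'.left, ⊤)) + v₂ by rw [hv₁, hv₂]; ring, rt_add]
  rw [_root_.mul_assoc, keyu X' (σ ≫ π), ← _root_.mul_assoc, keyu X' (σ ≫ π), _root_.mul_assoc]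

end Groth.Agent.BigCell
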