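import Groth.Agent.CorootLib.NoBad

/-!
# The linear coefficient on geometric points, and its global version
-/

set_option autoImplicit false
set_option maxHeartbeats 1000000
universe u

open CategoryTheory CategoryTheory.Limits MonoidalCategory CartesianMonoidalCategory AlgebraicGeometry
open Groth.Agent.GaPts
open scoped MonObj

noncomputable section

namespace Groth.Agent.BigCell

open Groth.Agent.HomRep (bcEquiv bcEquiv_mul bcEquiv_symm_mul)

variable {S : Scheme.{u}} {G T : Over S} [GrpObj G] [GrpObj T] {i : T ⟶ G} {α : T ⟶ Red.Gm S}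
    {pp pm : Red.Ga S ⟶ G}

/-- A geometric point factors through the standard one at its image. -/
theorem exists_to_geom {K : Type u} [Field K] [IsAlgClosed K] (a : Spec (CommRingCat.of K) ⟶ S) :
    ∃ (s : S) (c : Spec (CommRingCat.of K) ⟶ Spec (CommRingCat.of (AlgebraicClosure (S.residueField s)))),
      c ≫ Red.geomPt s = a ∧ Flat c ∧ Surjective c := by
  obtain ⟨s, φ, rfl⟩ : ∃ (s : S) (φ : S.residueField s ⟶ CommRingCat.of K),
      Spec.map φ ≫ S.fromSpecResidueField s = a :=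
    ⟨_, _, Scheme.descResidueField_stalkClosedPointTo_fromSpecResidueField K S a⟩
  letI : Algebra (S.residueField s) K := φ.hom.toAlgebra
  let ψ : AlgebraicClosure (S.residueField s) →ₐ[S.residueField s] K := IsAlgClosed.lift
  refine ⟨s, Spec.map (CommRingCat.ofHom ψ.toRingHom), ?_, ?_, ⟨fun q => ⟨(IsLocalRing.closedPoint K : PrimeSpectrum K),
    @Subsingleton.elim (PrimeSpectrum (AlgebraicClosure (S.residueField s))) inferInstance _ _⟩⟩⟩
  · rw [Red.geomPt, ← Category.assoc, ← Spec.map_comp]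
    congr 2
    ext b
    exact ψ.commutes b
  · rw [HasRingHomProperty.Spec_iff (P := @Flat)]
    letI := ψ.toRingHom.toAlgebra
    exact (inferInstance : Module.Flat (AlgebraicClosure (S.residueField s)) K)

/-- The root groups commute on no geometric fibre. -/
def NonComm (pp pm : Red.Ga S ⟶ G) : Prop :=
  ∀ s : S, ∃ (X : Over (Spec (CommRingCat.of (AlgebraicClosure (S.residueField s)))))
    (x y : X ⟶ Red.bc (Red.geomPt s) (Red.Ga S)),
    (x ≫ (Over.pullback (Red.geomPt s)).map pp) * (y ≫ (Over.pullback (Red.geomPt s)).map pm) ≠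
      (y ≫ (Over.pullback (Red.geomPt s)).map pm) * (x ≫ (Over.pullback (Red.geomPt s)).map pp)

theorem false_of_commute (hnc : NonComm pp pm) {K : Type u} [Field K] [IsAlgClosed K]
    (a : Spec (CommRingCat.of K) ⟶ S)
    (h : ∀ (X : Over S) (_ : X ⟶ fieldPt K a) (x y : Γ(X.left, ⊤)), rt pp x * rt pm y = rt pm y * rt pp x) : False := by
  obtain ⟨s, c, hc, hflat, hsurj⟩ := exists_to_geom a
  haveI := hflat
  haveI := hsurj
  obtain ⟨X, x, y, hxy⟩ := hnc s
  let g := Red.geomPt s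
  let Xs := (Over.map g).obj X
  let W : Over S := Over.mk (pullback.fst X.hom c ≫ X.hom ≫ g)
  let π : W ⟶ Xs := Over.homMk (pullback.fst X.hom c) rfl
  let ρ : W ⟶ fieldPt K a := Over.homMk (pullback.snd X.hom c) (by
    show pullback.snd X.hom c ≫ a = pullback.fst X.hom c ≫ X.hom ≫ g
    rw [pullback.condition_assoc, hc])
  haveI : Flat π.left := inferInstanceAs (Flat (pullback.fst X.hom c))
  haveI : Surjective π.left := inferInstanceAs (Surjective (pullback.fst X.hom c))
  haveI := epi_of_flat π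
  refine hxy ?_
  have hE : ∀ (p : Red.Ga S ⟶ G) (z : X ⟶ Red.bc g (Red.Ga S)),
      z ≫ (Over.pullback g).map p = bcEquiv g G X (rt p (X := Xs) (Red.gaFn ((bcEquiv g (Red.Ga S) X).symm z))) := by
    intro p z
    rw [← rt_eq p ((bcEquiv g (Red.Ga S) X).symm z) rfl]
    refine Eq.symm (((Over.mapPullbackAdj g).homEquiv_naturality_right _ _).trans ?_)
    show bcEquiv g (Red.Ga S) X ((bcEquiv g (Red.Ga S) X).symm z) ≫ _ = _
    rw [Equiv.apply_symm_apply]
  rw [hE, hE, ← bcEquiv_mul, ← bcEquiv_mul]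
  congr 1
  rw [← cancel_epi π, MonObj.comp_mul, MonObj.comp_mul, comp_rt, comp_rt]
  exact h W ρ _ _

/-- Over an algebraically closed field point `c₁` is invertible and its inverse is outside the cell. -/
theorem Sys.exists_bad (st : Sys i α pp pm) (hT : Red.IsTorus T)
    (hα : ∀ s : S, (Over.pullback (Red.geomPt s)).map α ≠ 1) (hnc : NonComm pp pm) {K : Type u} [Field K] [IsAlgClosed K]
    (a : Spec (CommRingCat.of K) ⟶ S) :
    ∃ w, c1 st (fieldPt K a) * w = 1 ∧ w ∈ Bad (K := K) (a := a) i pp pm := by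
  obtain ⟨I, P, p, hflat, hsurj, hj⟩ := exists_split_cover hT
  let z₀ : (fieldPt K a).left := (IsLocalRing.closedPoint K : PrimeSpectrum K)
  obtain ⟨k, v, hv⟩ := hsurj (a z₀)
  obtain ⟨r, j, -⟩ := hj k
  let W : Over S := Over.mk (pullback.fst a (p k) ≫ a)
  obtain ⟨x₀, -, -⟩ := Scheme.Pullback.exists_preimage_pullback (f := a) (g := p k) z₀ v hv.symm
  obtain ⟨L, _, _, b, ρ, -⟩ := exists_geomPt W x₀
  let π : fieldPt L b ⟶ fieldPt K a := ρ ≫ Over.homMk (pullback.fst a (p k)) rfl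
  have hq : (ρ.left ≫ pullback.snd a (p k)) ≫ p k = b := by
    rw [Category.assoc, ← pullback.condition]
    exact Over.w ρ
  have hL : ∃ w, w ∈ Bad (K := L) (a := b) i pp pm := by
    by_contra hne
    push Not at hne
    exact false_of_commute hnc b fun X ρ' => st.commute_of_noBad hT hα (p k) j _ hq (fun w => not_not.1 (hne w)) ρ'
  obtain ⟨wL, hwL⟩ := hL
  have hmul := st.c1_mul_bad hT hα hwL
  have hne : c1 st (fieldPt K a) ≠ 0 := fun e => by
    rw [← st.c1_map π, e, map_zero, zero_mul] at hmul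
    exact zero_ne_one hmul
  obtain ⟨w, hw⟩ := (isUnit_of_ne_zero hne).exists_right_inv
  refine ⟨w, hw, fun hin => hwL ?_⟩
  have h1 : π.left.appTop w = wL := by
    have h2 := congrArg π.left.appTop hw
    rw [map_mul, map_one, st.c1_map π] at h2
    exact (IsUnit.of_mul_eq_one _ hmul).mul_left_cancel (h2.trans hmul.symm)
  have := hin.comp π
  rwa [MonObj.comp_mul, comp_rt, comp_rt, map_one, h1] at this

/-- On a field point the first coordinate is `1 / (1 - c₁ u)`. -/
theorem Sys.crd_field (st : Sys i α pp pm) (hT : Red.IsTorus T)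
    (hα : ∀ s : S, (Over.pullback (Red.geomPt s)).map α ≠ 1) (hnc : NonComm pp pm) {K : Type u} [Field K] [IsAlgClosed K]
    {a : Spec (CommRingCat.of K) ⟶ S} {u A B : Γ((fieldPt K a).left, ⊤)} {τ : fieldPt K a ⟶ T}
    (h : Crd i pp pm u A τ B) : A * (1 - c1 st (fieldPt K a) * u) = 1 := by
  obtain ⟨z, hz, hbad⟩ := st.exists_bad hT hα hnc a
  have e : A * (z - u) = z := st.subsingleton_bad hT hα (st.bad_sub hT hα h hbad) hbad
  linear_combination c1 st (fieldPt K a) * e + (1 - A) * hz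

theorem Sys.inCell_field (st : Sys i α pp pm) (hT : Red.IsTorus T)
    (hα : ∀ s : S, (Over.pullback (Red.geomPt s)).map α ≠ 1) (hnc : NonComm pp pm) {K : Type u} [Field K] [IsAlgClosed K]
    {a : Spec (CommRingCat.of K) ⟶ S} {u : Γ((fieldPt K a).left, ⊤)} (hu : 1 - c1 st (fieldPt K a) * u ≠ 0) :
    InCell i pp pm (rt pp 1 * rt pm u) := by
  obtain ⟨z, hz, hbad⟩ := st.exists_bad hT hα hnc a
  by_contra hne
  have e : u = z := st.subsingleton_bad hT hα hne hbad
  exact hu (by rw [e, hz, sub_self])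

theorem Sys.isUnit_c1 (st : Sys i α pp pm) (hT : Red.IsTorus T)
    (hα : ∀ s : S, (Over.pullback (Red.geomPt s)).map α ≠ 1) (hnc : NonComm pp pm) (X : Over S) [IsAffine X.left] :
    IsUnit (c1 st X) :=
  isUnit_of_field _ fun K _ _ a p h0 => by
    obtain ⟨z, hz, -⟩ := st.exists_bad hT hα hnc a
    rw [← st.c1_map p, h0, zero_mul] at hz
    exact zero_ne_one hz

/-- `p₊(1) p₋(·)` on the affine line. -/
def oneMul (pp pm : Red.Ga S ⟶ G) : Red.Ga S ⟶ G := rt pp 1 * rt pm (Red.gaFn (𝟙 (Red.Ga S)))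

/-- The global coefficient. -/
theorem Sys.exists_coeff (st : Sys i α pp pm) (hT : Red.IsTorus T)
    (hα : ∀ s : S, (Over.pullback (Red.geomPt s)).map α ≠ 1) (hnc : NonComm pp pm) :
    ∃ a : Γ((𝟙_ (Over S)).left, ⊤), IsUnit a ∧ ∀ (X : Over S) [IsAffine X.left], c1 st X = -pull X a := by
  classical
  haveI := smooth_Ga S
  haveI := flat_Ga S
  haveI := st.hΩ
  let A1 := Red.Ga S
  let tc : Γ(A1.left, ⊤) := Red.gaFn (𝟙 A1)
  let U : A1.left.Opens := (oneMul pp pm).left ⁻¹ᵁ (cellHom i pp pm).left.opensRange ⊓ A1.left.basicOpen tc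
  let X₀ : Over S := Over.mk (U.ι ≫ A1.hom)
  let j : X₀ ⟶ A1 := Over.homMk U.ι rfl
  let u := j.left.appTop tc
  have hu : IsUnit u := by
    refine RingedSpace.isUnit_of_isUnit_germ (X := X₀.left.toRingedSpace) ⊤ _ fun x _ => ?_
    refine (X₀.left.mem_basicOpen (U := ⊤) _ x trivial).1 ?_
    rw [← Scheme.preimage_basicOpen_top]
    exact x.2.2
  have hone : j ≫ oneMul pp pm = rt pp 1 * rt pm u := by
    rw [oneMul, MonObj.comp_mul, comp_rt, comp_rt, map_one]
  have hin : InCell i pp pm (rt pp 1 * rt pm u) := by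
    rw [← hone]
    refine (inCell_iff_range st.hΩ _).2 ?_
    rintro _ ⟨x, rfl⟩
    rw [show (j ≫ oneMul pp pm).left x = (oneMul pp pm).left (j.left x) from Scheme.Hom.comp_apply j.left _ x]
    exact x.2.1
  obtain ⟨A, τ, B, hc⟩ := exists_crd hin
  obtain ⟨aA, rfl⟩ := st.isUnit_crd hc
  obtain ⟨uu, huu⟩ := hu
  let e : Γ(X₀.left, ⊤) := ((((av' α τ * aA)⁻¹ : (Γ(X₀.left, ⊤))ˣ) : Γ(X₀.left, ⊤)) - 1) *
    (((uu * aA)⁻¹ : (Γ(X₀.left, ⊤))ˣ) : Γ(X₀.left, ⊤))
  have hloc : ∀ (Y : Over S) [IsAffine Y.left] (g : Y ⟶ X₀), g.left.appTop e = c1 st Y := by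
    intro Y _ g
    have h1 := hc.comp g
    obtain ⟨a', ha'⟩ := aA.isUnit.map g.left.appTop.hom
    change (a' : Γ(Y.left, ⊤)) = g.left.appTop (aA : Γ(X₀.left, ⊤)) at ha'
    rw [← ha'] at h1
    obtain ⟨-, e2⟩ := st.split_values hT hα Y (st.isUnit_c1 hT hα hnc Y) (uu.isUnit.map g.left.appTop.hom)
      (show Crd i pp pm (g.left.appTop (uu : Γ(X₀.left, ⊤))) a' _ _ by rw [huu]; exact h1)
    have e1 : (((av' α (g ≫ τ) * a')⁻¹ : (Γ(Y.left, ⊤))ˣ) : Γ(Y.left, ⊤)) =
        g.left.appTop ((((av' α τ * aA)⁻¹ : (Γ(X₀.left, ⊤))ˣ) : Γ(X₀.left, ⊤))) :=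
      appTop_inv_val g (by rw [Units.val_mul, Units.val_mul, map_mul, ha', ← comp_av']; rfl)
    change _ = 1 + c1 st Y * (g.left.appTop (uu : Γ(X₀.left, ⊤)) * _) at e2
    show g.left.appTop (_ * _) = _
    rw [map_mul, map_sub, map_one, ← e1, e2, add_sub_cancel_left, ha', ← map_mul, mul_assoc, ← map_mul,
      ← Units.val_mul, Units.mul_inv, map_one, mul_one]
  let π₀ : X₀ ⟶ 𝟙_ (Over S) := toUnit X₀
  have hπ₀ : π₀.left = U.ι ≫ A1.hom := ((Category.comp_id _).symm.trans (Over.w π₀))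
  haveI : LocallyOfFinitePresentation π₀.left := by rw [hπ₀]; infer_instance
  haveI : Flat π₀.left := by rw [hπ₀]; infer_instance
  haveI : Surjective π₀.left := ⟨fun s => by
    obtain ⟨K, _, _, a, p, hp⟩ := exists_geomPt (𝟙_ (Over S)) s
    obtain ⟨z, hz, -⟩ := st.exists_bad hT hα hnc a
    obtain ⟨w, hw⟩ := Infinite.exists_notMem_finset ({0, z} : Finset Γ((fieldPt K a).left, ⊤))
    simp only [Finset.mem_insert, Finset.mem_singleton, not_or] at hw
    let q : fieldPt K a ⟶ A1 := ptOf w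
    have hq : q.left.appTop tc = w := by rw [← gaFn_comp, Category.comp_id, gaFn_ptOf]
    let pt : (fieldPt K a).left := (IsLocalRing.closedPoint K : PrimeSpectrum K)
    have hmem : q.left pt ∈ U := by
      refine ⟨?_, ?_⟩
      · have h1 : InCell i pp pm (q ≫ oneMul pp pm) := by
          rw [oneMul, MonObj.comp_mul, comp_rt, comp_rt, map_one, hq]
          refine st.inCell_field hT hα hnc fun e0 => hw.2 ?_
          linear_combination -z * e0 - w * hz
        have h2 := (inCell_iff_range st.hΩ _).1 h1 ⟨pt, rfl⟩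
        rw [show (q ≫ oneMul pp pm).left pt = (oneMul pp pm).left (q.left pt) from Scheme.Hom.comp_apply q.left _ pt] at h2
        exact h2
      · change pt ∈ q.left ⁻¹ᵁ A1.left.basicOpen tc
        rw [Scheme.preimage_basicOpen_top, Scheme.basicOpen_of_isUnit _ (hq ▸ isUnit_of_ne_zero hw.1)]
        trivial
    refine ⟨⟨q.left pt, hmem⟩, ?_⟩
    rw [hπ₀]
    refine (Scheme.Hom.comp_apply U.ι A1.hom _).trans ?_
    show A1.hom (q.left pt) = s
    rw [← Scheme.Hom.comp_apply, Over.w q, ← hp pt]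
    show a pt = p.left pt
    rw [show p.left = a from (Category.comp_id _).symm.trans (Over.w p)]
    ⟩
  haveI := epi_of_flat π₀
  let φ : X₀ ⟶ A1 := ptOf e
  have heq : ∀ {Z : Over S} (f g : Z ⟶ X₀), f ≫ φ = g ≫ φ := by
    intro Z f g
    refine eq_of_affine fun Y σ hY => ?_
    haveI := hY
    rw [← Category.assoc, ← Category.assoc, RankOne.comp_ptOf, RankOne.comp_ptOf, hloc, hloc]
  let ml : (𝟙_ (Over S)).left ⟶ A1.left := EffectiveEpi.desc π₀.left φ.left fun {W} f g hfg => by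
    let Z : Over S := Over.mk (f ≫ X₀.hom)
    let f' : Z ⟶ X₀ := Over.homMk f rfl
    let g' : Z ⟶ X₀ := Over.homMk g (by
      show g ≫ X₀.hom = f ≫ X₀.hom
      rw [← Over.w π₀, ← Category.assoc, ← hfg, Category.assoc])
    exact congrArg CommaMorphism.left (heq f' g')
  have hml : π₀.left ≫ ml = φ.left := EffectiveEpi.fac _ _ _
  let mh : 𝟙_ (Over S) ⟶ A1 := Over.homMk ml (by
    haveI := Flat.epi_of_flat_of_surjective π₀.left
    rw [← cancel_epi π₀.left, ← Category.assoc, hml, Over.w φ, Over.w π₀])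
  have hmh : π₀ ≫ mh = φ := Over.OverMorphism.ext hml
  have he : π₀.left.appTop (Red.gaFn mh) = e := by rw [← gaFn_comp, hmh, gaFn_ptOf]
  have hspec : ∀ (X : Over S) [IsAffine X.left], c1 st X = pull X (Red.gaFn mh) := by
    intro X _
    let W : Over S := Over.mk (pullback.fst (toUnit X).left π₀.left ≫ X.hom)
    let σ : W ⟶ X := Over.homMk (pullback.fst (toUnit X).left π₀.left) rfl
    let τ' : W ⟶ X₀ := Over.homMk (pullback.snd (toUnit X).left π₀.left) (by
      show _ ≫ X₀.hom = _ ≫ X.hom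
      rw [← Over.w π₀, ← Category.assoc, ← pullback.condition, Category.assoc, Over.w (toUnit X)])
    haveI : Flat σ.left := inferInstanceAs (Flat (pullback.fst (toUnit X).left π₀.left))
    haveI : Surjective σ.left := inferInstanceAs (Surjective (pullback.fst (toUnit X).left π₀.left))
    haveI := epi_of_flat σ
    refine appTop_injective σ ?_
    rw [appTop_pull]
    refine sub_eq_zero.1 (eq_zero_of_affine _ fun Y g hY => ?_)
    haveI := hY
    rw [map_sub, ← ConcreteCategory.comp_apply, ← Scheme.Hom.comp_appTop, ← Over.comp_left, st.c1_map (g ≫ σ),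
      appTop_pull, ← hloc Y (g ≫ τ'), ← he, appTop_pull, sub_self]
  refine ⟨-Red.gaFn mh, IsUnit.neg ?_, fun X _ => by rw [hspec, pull, pull, map_neg, neg_neg]⟩
  refine isUnit_of_field _ fun K _ _ a p h0 => ?_
  have h1 := hspec (fieldPt K a)
  rw [pull, toUnit_unique (toUnit _) p, h0] at h1
  exact (st.isUnit_c1 hT hα hnc (fieldPt K a)).ne_zero h1

end Groth.Agent.BigCell
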