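import Groth.Agent.CorootLib.Basic

/-!
# The first coordinate near the zero section
-/

set_option autoImplicit false
set_option maxHeartbeats 1000000
universe u

open CategoryTheory CategoryTheory.Limits MonoidalCategory CartesianMonoidalCategory AlgebraicGeometry
open Groth.Agent.GaPts
open scoped MonObj

noncomputable section

namespace Groth.Agent.BigCell

section RingHoms

variable {R : Type u} [CommRing R]

/-- `G ↦ (G, w G')`. -/
def derivHom (w : PowerSeries R) : PowerSeries R →+* DualNumber (PowerSeries R) where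
  toFun G := TrivSqZeroExt.inl G + TrivSqZeroExt.inr (w * PowerSeries.derivative R G)
  map_one' := by ext <;> simp [PowerSeries.derivative_one]
  map_zero' := by ext <;> simp
  map_mul' G H := by
    refine TrivSqZeroExt.ext (by simp) ?_
    simp only [TrivSqZeroExt.snd_add, TrivSqZeroExt.snd_inl, TrivSqZeroExt.snd_inr, zero_add, DualNumber.snd_mul,
      TrivSqZeroExt.fst_add, TrivSqZeroExt.fst_inl, TrivSqZeroExt.fst_inr, add_zero, Derivation.leibniz, smul_eq_mul]
    ring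
  map_add' G H := by
    refine TrivSqZeroExt.ext (by simp) ?_
    simp only [TrivSqZeroExt.snd_add, TrivSqZeroExt.snd_inl, TrivSqZeroExt.snd_inr, zero_add, map_add, mul_add]

/-- `G ↦ G(f ε)`. -/
def linHom (f : PowerSeries R) : PowerSeries R →+* DualNumber (PowerSeries R) where
  toFun G := TrivSqZeroExt.inl (PowerSeries.C (PowerSeries.constantCoeff G)) +
    TrivSqZeroExt.inr (PowerSeries.C (PowerSeries.coeff 1 G) * f)
  map_one' := by ext <;> simp
  map_zero' := by ext <;> simp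
  map_mul' G H := by
    refine TrivSqZeroExt.ext (by simp) ?_
    simp only [TrivSqZeroExt.snd_add, TrivSqZeroExt.snd_inl, TrivSqZeroExt.snd_inr, zero_add, DualNumber.snd_mul,
      TrivSqZeroExt.fst_add, TrivSqZeroExt.fst_inl, TrivSqZeroExt.fst_inr, add_zero, PowerSeries.coeff_one_mul,
      map_add, map_mul]
    ring
  map_add' G H := by
    refine TrivSqZeroExt.ext (by simp) ?_
    simp only [TrivSqZeroExt.snd_add, TrivSqZeroExt.snd_inl, TrivSqZeroExt.snd_inr, zero_add, map_add, add_mul]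

theorem derivHom_C (w : PowerSeries R) : (derivHom w).comp PowerSeries.C =
    (TrivSqZeroExt.inlHom (PowerSeries R) (PowerSeries R)).comp PowerSeries.C := by
  refine RingHom.ext fun r => TrivSqZeroExt.ext ?_ ?_ <;> simp [derivHom]

theorem linHom_C (f : PowerSeries R) : (linHom f).comp PowerSeries.C =
    (TrivSqZeroExt.inlHom (PowerSeries R) (PowerSeries R)).comp PowerSeries.C := by
  refine RingHom.ext fun r => TrivSqZeroExt.ext ?_ ?_ <;> simp [linHom, PowerSeries.coeff_C]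

theorem rescale_comp_C (r : R) : (PowerSeries.rescale r).comp PowerSeries.C = PowerSeries.C := by
  refine RingHom.ext fun x => PowerSeries.ext fun n => ?_
  rw [RingHom.comp_apply, PowerSeries.coeff_rescale, PowerSeries.coeff_C]
  split <;> simp_all

end RingHoms

variable {S : Scheme.{u}} {G T : Over S} [GrpObj G] [GrpObj T] {i : T ⟶ G} {α : T ⟶ Red.Gm S}
    {pp pm : Red.Ga S ⟶ G}

/-- `p₊(1) p₋(U)` lies in the cell on the formal neighbourhood. -/
theorem Sys.inCell_series (st : Sys i α pp pm) (X : Over S) [IsAffine X.left] :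
    InCell i pp pm (rt pp 1 * rt pm (affVal X (PowerSeries.C (R := Γ(X.left, ⊤))) PowerSeries.X)) := by
  haveI := st.mon_pm
  haveI := st.mon_i
  haveI := st.hΩ
  let g := rt pp 1 * rt pm (affVal X (PowerSeries.C (R := Γ(X.left, ⊤))) PowerSeries.X)
  refine (inCell_iff_range st.hΩ g).2 ?_
  rintro _ ⟨p, rfl⟩
  let O : (affPt X (PowerSeries.C (R := Γ(X.left, ⊤)))).left.Opens := g.left ⁻¹ᵁ (cellHom i pp pm).left.opensRange
  show p ∈ O
  have h0 : (PowerSeries.constantCoeff (R := Γ(X.left, ⊤))).comp PowerSeries.C = RingHom.id _ :=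
    RingHom.ext fun r => PowerSeries.constantCoeff_C r
  obtain ⟨r, hr, -, hrv⟩ := exists_affPoint (Y := X) (PowerSeries.C (R := Γ(X.left, ⊤)))
    (PowerSeries.constantCoeff (R := Γ(X.left, ⊤)))
  have hrg : InCell i pp pm (r ≫ g) := by
    refine ⟨0, 1, 1, ?_⟩
    rw [MonObj.comp_mul, comp_rt, comp_rt, map_one, hrv, PowerSeries.constantCoeff_X, map_zero]
    simp only [cell, rt_zero, MonObj.one_comp, _root_.mul_one, _root_.one_mul]
  let q : PrimeSpectrum (PowerSeries Γ(X.left, ⊤)) := p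
  obtain ⟨m, hm, hpm⟩ := q.asIdeal.exists_le_maximal q.isPrime.ne_top
  let m' : PrimeSpectrum (PowerSeries Γ(X.left, ⊤)) := ⟨m, hm.isPrime⟩
  have hker : RingHom.ker (PowerSeries.constantCoeff (R := Γ(X.left, ⊤))) ≤ m := by
    intro F hF
    by_contra hne
    obtain ⟨y, z, hz, hyz⟩ := hm.exists_inv hne
    have hu : IsUnit z := by
      rw [PowerSeries.isUnit_iff_constantCoeff]
      have := congrArg PowerSeries.constantCoeff hyz
      rw [map_add, map_mul, RingHom.mem_ker.1 hF, mul_zero, zero_add, map_one] at this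
      rw [this]
      exact isUnit_one
    exact hm.ne_top (Ideal.eq_top_of_isUnit_mem _ hz hu)
  have hrange : m' ∈ Set.range (PrimeSpectrum.comap (PowerSeries.constantCoeff (R := Γ(X.left, ⊤)))) := by
    rw [range_comap_of_surjective _ _ (fun x => ⟨PowerSeries.C x, PowerSeries.constantCoeff_C x⟩)]
    exact hker
  obtain ⟨w₀, hw⟩ := hrange
  let w : (affPt X ((PowerSeries.constantCoeff (R := Γ(X.left, ⊤))).comp PowerSeries.C)).left := w₀
  have h1 : r.left w ∈ O := by
    have h := (inCell_iff_range st.hΩ (r ≫ g)).1 hrg ⟨w, rfl⟩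
    rw [show (r ≫ g).left w = g.left (r.left w) from Scheme.Hom.comp_apply r.left g.left w] at h
    exact h
  have h2 : r.left w = m' := by rw [hr]; exact hw
  rw [h2] at h1
  exact O.isOpen.stableUnderGeneralization ((PrimeSpectrum.le_iff_specializes q m').1 hpm) h1

theorem Sys.exists_series (st : Sys i α pp pm) (X : Over S) [IsAffine X.left] :
    ∃ (F : PowerSeries Γ(X.left, ⊤)) (τ : affPt X (PowerSeries.C (R := Γ(X.left, ⊤))) ⟶ T)
      (B : Γ((affPt X (PowerSeries.C (R := Γ(X.left, ⊤)))).left, ⊤)),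
      Crd i pp pm (affVal X (PowerSeries.C (R := Γ(X.left, ⊤))) PowerSeries.X)
        (affVal X (PowerSeries.C (R := Γ(X.left, ⊤))) F) τ B := by
  obtain ⟨A, τ, B, h⟩ := exists_crd (st.inCell_series X)
  obtain ⟨F, rfl⟩ := affVal_surjective X _ A
  exact ⟨F, τ, B, h⟩

/-- The first coordinate as a series. -/
def ser (st : Sys i α pp pm) (X : Over S) [IsAffine X.left] : PowerSeries Γ(X.left, ⊤) :=
  (st.exists_series X).choose

/-- Its linear coefficient. -/
def c1 (st : Sys i α pp pm) (X : Over S) [IsAffine X.left] : Γ(X.left, ⊤) :=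
  PowerSeries.coeff 1 (ser st X)

/-- Substitution in the series. -/
theorem Sys.crd_ser (st : Sys i α pp pm) (X : Over S) [IsAffine X.left] {B : Type u} [CommRing B]
    (φ : Γ(X.left, ⊤) →+* B) (ψ : PowerSeries Γ(X.left, ⊤) →+* B) (h : ψ.comp PowerSeries.C = φ) :
    ∃ (τ : affPt X φ ⟶ T) (b : Γ((affPt X φ).left, ⊤)),
      Crd i pp pm (affVal X φ (ψ PowerSeries.X)) (affVal X φ (ψ (ser st X))) τ b := by
  obtain ⟨r, hr⟩ := exists_affPoint' (X := X) PowerSeries.C φ ψ h
  obtain ⟨τ, b, hc⟩ := (st.exists_series X).choose_spec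
  have := hc.comp r
  rw [hr, hr] at this
  exact ⟨_, _, this⟩

theorem Sys.constantCoeff_ser (st : Sys i α pp pm) (X : Over S) [IsAffine X.left] :
    PowerSeries.constantCoeff (ser st X) = 1 := by
  obtain ⟨τ, b, h⟩ := st.crd_ser X (RingHom.id _) PowerSeries.constantCoeff
    (RingHom.ext fun r => PowerSeries.constantCoeff_C r)
  rw [PowerSeries.constantCoeff_X, map_zero] at h
  refine affVal_injective X (RingHom.id _) ?_
  rw [map_one]
  exact (st.crd_unique h st.crd_zero).1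

theorem Sys.ser_map (st : Sys i α pp pm) {Y X : Over S} [IsAffine Y.left] [IsAffine X.left] (g : Y ⟶ X) :
    PowerSeries.map g.left.appTop.hom (ser st X) = ser st Y := by
  obtain ⟨r, -, hr⟩ := exists_affPoint_map g PowerSeries.C PowerSeries.C (PowerSeries.map g.left.appTop.hom)
    (RingHom.ext fun x => PowerSeries.map_C _ x)
  obtain ⟨τ, b, hc⟩ := (st.exists_series X).choose_spec
  obtain ⟨τ', b', hc'⟩ := (st.exists_series Y).choose_spec
  have := hc.comp r
  rw [hr, hr, PowerSeries.map_X] at this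
  exact affVal_injective _ _ (st.crd_unique this hc').1

theorem Sys.c1_map (st : Sys i α pp pm) {Y X : Over S} [IsAffine Y.left] [IsAffine X.left] (g : Y ⟶ X) :
    g.left.appTop (c1 st X) = c1 st Y := by
  rw [c1, c1, ← st.ser_map g, PowerSeries.coeff_map]

/-- The two differential equations. -/
theorem Sys.ser_ode (st : Sys i α pp pm) (hT : Red.IsTorus T)
    (hα : ∀ s : S, (Over.pullback (Red.geomPt s)).map α ≠ 1) (X : Over S) [IsAffine X.left] :
    PowerSeries.derivative _ (ser st X) = PowerSeries.C (c1 st X) * (ser st X * ser st X) ∧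
      PowerSeries.derivative _ (ser st X) = PowerSeries.C (c1 st X) * ser st X +
        PowerSeries.C (c1 st X) * PowerSeries.X * PowerSeries.derivative _ (ser st X) := by
  let R := Γ(X.left, ⊤)
  let φ : R →+* DualNumber (PowerSeries R) :=
    (TrivSqZeroExt.inlHom (PowerSeries R) (PowerSeries R)).comp PowerSeries.C
  let F := ser st X
  let v := affVal X φ
  obtain ⟨τ0, b0, hU⟩ := st.crd_ser X φ (derivHom 0) (derivHom_C 0)
  obtain ⟨τ1, b1, hUe⟩ := st.crd_ser X φ (derivHom 1) (derivHom_C 1)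
  obtain ⟨τ2, b2, he⟩ := st.crd_ser X φ (linHom 1) (linHom_C 1)
  obtain ⟨τ3, b3, hFe⟩ := st.crd_ser X φ (linHom F) (linHom_C F)
  obtain ⟨τ4, b4, hwU⟩ := st.crd_ser X φ (derivHom (PowerSeries.C (c1 st X) * PowerSeries.X))
    (derivHom_C _)
  constructor
  · obtain ⟨a, ha⟩ := st.isUnit_crd hU
    rw [← ha] at hU
    have h2 : Crd i pp pm ((a : Γ((affPt X φ).left, ⊤)) * v (linHom 1 PowerSeries.X)) (v (linHom F F)) τ3 b3 := by
      rw [ha, ← map_mul]
      convert hFe using 2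
      refine TrivSqZeroExt.ext ?_ ?_ <;>
        simp [linHom, derivHom, F, DualNumber.snd_mul]
    have h3 := st.crd_add hT hα hU h2
    rw [← map_add, show derivHom 0 PowerSeries.X + linHom 1 PowerSeries.X = derivHom (R := R) 1 PowerSeries.X from
      TrivSqZeroExt.ext (by simp [linHom, derivHom]) (by simp [linHom, derivHom]), ha, ← map_mul] at h3
    have e := congrArg TrivSqZeroExt.snd (affVal_injective X φ (st.crd_unique hUe h3).1)
    simp [linHom, derivHom, DualNumber.snd_mul, F, st.constantCoeff_ser X, c1] at e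
    rw [e]
    simp only [c1, F]
    ring
  · obtain ⟨a, ha⟩ := st.isUnit_crd he
    rw [← ha] at he
    have h2 : Crd i pp pm ((a : Γ((affPt X φ).left, ⊤)) * v (derivHom 0 PowerSeries.X))
        (v (derivHom (PowerSeries.C (c1 st X) * PowerSeries.X) F)) τ4 b4 := by
      rw [ha, ← map_mul]
      convert hwU using 2
      refine TrivSqZeroExt.ext ?_ ?_ <;>
        simp [linHom, derivHom, F, DualNumber.snd_mul, st.constantCoeff_ser X, c1]
    have h3 := st.crd_add hT hα he h2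
    rw [← map_add, show linHom 1 PowerSeries.X + derivHom 0 PowerSeries.X = derivHom (R := R) 1 PowerSeries.X from
      TrivSqZeroExt.ext (by simp [linHom, derivHom]) (by simp [linHom, derivHom]), ha, ← map_mul] at h3
    have e := congrArg TrivSqZeroExt.snd (affVal_injective X φ (st.crd_unique hUe h3).1)
    simp [linHom, derivHom, DualNumber.snd_mul, F, st.constantCoeff_ser X, c1] at e
    conv_lhs => rw [e]
    simp only [c1, F]
    ring

/-- With an invertible linear coefficient the series is geometric. -/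
theorem Sys.ser_geom (st : Sys i α pp pm) (hT : Red.IsTorus T)
    (hα : ∀ s : S, (Over.pullback (Red.geomPt s)).map α ≠ 1) (X : Over S) [IsAffine X.left]
    (hc1 : IsUnit (c1 st X)) :
    ser st X * (1 - PowerSeries.C (c1 st X) * PowerSeries.X) = 1 ∧
      PowerSeries.coeff 2 (ser st X) = c1 st X * c1 st X := by
  obtain ⟨e1, e2⟩ := st.ser_ode hT hα X
  let F := ser st X
  have hF : IsUnit F := by rw [PowerSeries.isUnit_iff_constantCoeff, st.constantCoeff_ser]; exact isUnit_one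
  have e : F * (1 - PowerSeries.C (c1 st X) * PowerSeries.X) = 1 := by
    refine (((hc1.map PowerSeries.C).mul hF)).mul_left_cancel ?_
    show PowerSeries.C (c1 st X) * F * (F * _) = PowerSeries.C (c1 st X) * F * 1
    rw [e1] at e2
    linear_combination e2
  refine ⟨e, ?_⟩
  have h := congrArg (PowerSeries.coeff 2) e
  rw [mul_sub, mul_one, ← mul_assoc, mul_comm F, map_sub, mul_comm _ PowerSeries.X, PowerSeries.coeff_succ_X_mul,
    PowerSeries.coeff_C_mul, PowerSeries.coeff_one, if_neg (by norm_num), sub_eq_zero] at h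
  exact h

/-- The second functional equation for a point `U` with both coordinates known. -/
theorem Sys.split_eq (st : Sys i α pp pm) (hT : Red.IsTorus T)
    (hα : ∀ s : S, (Over.pullback (Red.geomPt s)).map α ≠ 1) {Y : Over S} {u B FU FR bF bR : Γ(Y.left, ⊤)}
    {a q U : (Γ(Y.left, ⊤))ˣ} {τ τF τR : Y ⟶ T} (h : Crd i pp pm u a τ B)
    (hq : (q : Γ(Y.left, ⊤)) = u * a) (hqU : IsUnit ((q : Γ(Y.left, ⊤)) + (U : Γ(Y.left, ⊤))))
    (hF : Crd i pp pm (U : Γ(Y.left, ⊤)) FU τF bF)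
    (hR : Crd i pp pm (B * ((q⁻¹ : (Γ(Y.left, ⊤))ˣ) : Γ(Y.left, ⊤)) * (U : Γ(Y.left, ⊤))) FR τR bR) :
    ((q : Γ(Y.left, ⊤)) + (U : Γ(Y.left, ⊤))) * FU =
      q + (((av' α τ * a)⁻¹ : (Γ(Y.left, ⊤))ˣ) : Γ(Y.left, ⊤)) * (U : Γ(Y.left, ⊤)) * FR := by
  obtain ⟨p, hp⟩ := hqU
  set ai : Γ(Y.left, ⊤) := ((a⁻¹ : (Γ(Y.left, ⊤))ˣ) : Γ(Y.left, ⊤)) with hai
  set qi : Γ(Y.left, ⊤) := ((q⁻¹ : (Γ(Y.left, ⊤))ˣ) : Γ(Y.left, ⊤)) with hqi
  have ea : (a : Γ(Y.left, ⊤)) * ai = 1 := a.mul_inv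
  have eq' : (q : Γ(Y.left, ⊤)) * qi = 1 := q.mul_inv
  have hs : ((p * q⁻¹ : (Γ(Y.left, ⊤))ˣ) : Γ(Y.left, ⊤)) = 1 + ((U * q⁻¹ : (Γ(Y.left, ⊤))ˣ) : Γ(Y.left, ⊤)) := by
    rw [Units.val_mul, Units.val_mul, hp, ← hqi]
    linear_combination eq'
  have h2 : Crd i pp pm ((a : Γ(Y.left, ⊤)) * (ai * (U : Γ(Y.left, ⊤)))) FU τF bF := by
    rwa [← mul_assoc, ea, one_mul]
  have h3 := st.crd_add hT hα h h2
  rw [show u + ai * (U : Γ(Y.left, ⊤)) = ((p * q⁻¹ : (Γ(Y.left, ⊤))ˣ) : Γ(Y.left, ⊤)) * u by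
    rw [Units.val_mul, hp, ← hqi]
    linear_combination (U : Γ(Y.left, ⊤)) * u * qi * ea - u * eq' + (U : Γ(Y.left, ⊤)) * qi * ai * hq -
      (U : Γ(Y.left, ⊤)) * ai * eq'] at h3
  have h4 : Crd i pp pm (((U * q⁻¹ : (Γ(Y.left, ⊤))ˣ) : Γ(Y.left, ⊤)) * B) FR τR bR := by
    rw [Units.val_mul, ← hqi, show (U : Γ(Y.left, ⊤)) * qi * B = B * qi * U by ring]
    exact hR
  obtain ⟨e, -, -⟩ := st.crd_split hT hα h (U * q⁻¹) (p * q⁻¹) hs h3 h4
  rw [Units.val_mul, Units.val_mul, hp, ← hqi] at e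
  rw [mul_inv, Units.val_mul, ← hai]
  set c : Γ(Y.left, ⊤) := (((av' α τ)⁻¹ : (Γ(Y.left, ⊤))ˣ) : Γ(Y.left, ⊤)) with hc
  linear_combination (q : Γ(Y.left, ⊤)) * ai * e +
    (c * ai * (U : Γ(Y.left, ⊤)) * FR - ((q : Γ(Y.left, ⊤)) + (U : Γ(Y.left, ⊤))) * FU * (a : Γ(Y.left, ⊤)) * ai) * eq' +
    ((q : Γ(Y.left, ⊤)) - ((q : Γ(Y.left, ⊤)) + (U : Γ(Y.left, ⊤))) * FU) * ea

/-- The second functional equation on the formal neighbourhood, next to a point `u`. -/
theorem Sys.ser_split (st : Sys i α pp pm) (hT : Red.IsTorus T)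
    (hα : ∀ s : S, (Over.pullback (Red.geomPt s)).map α ≠ 1) (X : Over S) [IsAffine X.left]
    {u B : Γ(X.left, ⊤)} {a q : (Γ(X.left, ⊤))ˣ} {τ : X ⟶ T} (h : Crd i pp pm u a τ B)
    (hq : (q : Γ(X.left, ⊤)) = u * a) :
    (PowerSeries.C (q : Γ(X.left, ⊤)) + PowerSeries.X) * ser st X =
      PowerSeries.C (q : Γ(X.left, ⊤)) +
        PowerSeries.C (((av' α τ * a)⁻¹ : (Γ(X.left, ⊤))ˣ) : Γ(X.left, ⊤)) * PowerSeries.X *
          PowerSeries.rescale (B * ((q⁻¹ : (Γ(X.left, ⊤))ˣ) : Γ(X.left, ⊤))) (ser st X) := by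
  let R := Γ(X.left, ⊤)
  let em : PowerSeries R →+* LaurentSeries R := HahnSeries.ofPowerSeries ℤ R
  let φ : R →+* LaurentSeries R := em.comp PowerSeries.C
  let r : R := B * ((q⁻¹ : Rˣ) : R)
  let Y := affPt X φ
  let j : PowerSeries R →+* Γ(Y.left, ⊤) := (affVal X φ).comp em
  have hj : Function.Injective j := (affVal_injective X φ).comp HahnSeries.ofPowerSeries_injective
  let π : Y ⟶ X := affMap X φ
  have hπ : ∀ c : R, π.left.appTop c = j (PowerSeries.C c) := affMap_appTop X φ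
  obtain ⟨U, hU⟩ : IsUnit (j PowerSeries.X) := by
    refine IsUnit.map (affVal X φ) ?_
    show IsUnit (em PowerSeries.X)
    simp only [em, HahnSeries.ofPowerSeries_X]
    exact IsUnit.of_mul_eq_one (HahnSeries.single (-1) 1) (by rw [HahnSeries.single_mul_single]; simp)
  obtain ⟨τF, bF, hFc⟩ := st.crd_ser X φ em rfl
  obtain ⟨τr, br, hrc⟩ := st.crd_ser X φ (em.comp (PowerSeries.rescale r))
    (by rw [RingHom.comp_assoc, rescale_comp_C])
  obtain ⟨qj, hqj⟩ : IsUnit (π.left.appTop (q : R)) := q.isUnit.map _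
  obtain ⟨aj, haj⟩ : IsUnit (π.left.appTop (a : R)) := a.isUnit.map _
  have hu := h.comp π
  rw [← haj] at hu
  have hqu : (qj : Γ(Y.left, ⊤)) = π.left.appTop u * aj := by rw [hqj, haj, ← map_mul, hq]
  have hqU : IsUnit ((qj : Γ(Y.left, ⊤)) + (U : Γ(Y.left, ⊤))) := by
    rw [hqj, hπ, hU, ← map_add]
    exact IsUnit.map j (by
      rw [PowerSeries.isUnit_iff_constantCoeff, map_add, PowerSeries.constantCoeff_C, PowerSeries.constantCoeff_X,
        add_zero]
      exact q.isUnit)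
  have hr : π.left.appTop B * ((qj⁻¹ : (Γ(Y.left, ⊤))ˣ) : Γ(Y.left, ⊤)) * (U : Γ(Y.left, ⊤)) =
      j (PowerSeries.rescale r PowerSeries.X) := by
    rw [PowerSeries.rescale_X, map_mul, ← hU, ← hπ, map_mul, appTop_inv_val π hqj]
  have hR : Crd i pp pm (π.left.appTop B * ((qj⁻¹ : (Γ(Y.left, ⊤))ˣ) : Γ(Y.left, ⊤)) * (U : Γ(Y.left, ⊤)))
      (j (PowerSeries.rescale r (ser st X))) τr br := by
    rw [hr]; exact hrc
  have hF : Crd i pp pm (U : Γ(Y.left, ⊤)) (j (ser st X)) τF bF := by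
    rw [hU]; exact hFc
  have e := st.split_eq hT hα hu hqu hqU hF hR
  have hm : (((av' α (π ≫ τ) * aj)⁻¹ : (Γ(Y.left, ⊤))ˣ) : Γ(Y.left, ⊤)) =
      j (PowerSeries.C (((av' α τ * a)⁻¹ : Rˣ) : R)) := by
    rw [← hπ]
    refine appTop_inv_val π ?_
    rw [Units.val_mul, Units.val_mul, map_mul, haj, ← comp_av']
    rfl
  rw [hm, hqj, hπ, hU, ← map_mul, ← map_mul, ← map_add, ← map_add, ← map_mul] at e
  exact hj e

/-- Consequences: the ratio `B / (u A)` is `1`, and the weight. -/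
theorem Sys.split_values (st : Sys i α pp pm) (hT : Red.IsTorus T)
    (hα : ∀ s : S, (Over.pullback (Red.geomPt s)).map α ≠ 1) (X : Over S) [IsAffine X.left]
    (hc1 : IsUnit (c1 st X)) {u B : Γ(X.left, ⊤)} {a : (Γ(X.left, ⊤))ˣ} {τ : X ⟶ T} (hu : IsUnit u)
    (h : Crd i pp pm u a τ B) :
    B = u * a ∧ (((av' α τ * a)⁻¹ : (Γ(X.left, ⊤))ˣ) : Γ(X.left, ⊤)) = 1 + c1 st X * (u * a) := by
  obtain ⟨uu, rfl⟩ := hu
  have e := st.ser_split hT hα X h (q := uu * a) (Units.val_mul _ _)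
  set m : Γ(X.left, ⊤) := (((av' α τ * a)⁻¹ : (Γ(X.left, ⊤))ˣ) : Γ(X.left, ⊤)) with hm
  set q : Γ(X.left, ⊤) := ((uu * a : (Γ(X.left, ⊤))ˣ) : Γ(X.left, ⊤)) with hq
  set r : Γ(X.left, ⊤) := B * (((uu * a)⁻¹ : (Γ(X.left, ⊤))ˣ) : Γ(X.left, ⊤)) with hr
  obtain ⟨-, hc2⟩ := st.ser_geom hT hα X hc1
  have h1 := congrArg (PowerSeries.coeff 1) e
  have h2 := congrArg (PowerSeries.coeff 2) e
  simp only [add_mul, map_add, mul_assoc (PowerSeries.C m), PowerSeries.coeff_C_mul, PowerSeries.coeff_succ_X_mul,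
    PowerSeries.coeff_C, PowerSeries.coeff_rescale, pow_zero, pow_one, one_mul, if_neg one_ne_zero,
    if_neg (show ¬ (2 : ℕ) = 0 by norm_num), zero_add, PowerSeries.coeff_zero_eq_constantCoeff_apply,
    st.constantCoeff_ser X, mul_one, hc2] at h1 h2
  change q * c1 st X + 1 = m at h1
  change q * (c1 st X * c1 st X) + c1 st X = m * (r * c1 st X) at h2
  have hm' : IsUnit m := Units.isUnit _
  have h3 : r = 1 := by
    refine (hm'.mul hc1).mul_left_cancel ?_
    linear_combination -h2 + c1 st X * h1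
  refine ⟨?_, ?_⟩
  · rw [← Units.val_mul, ← hq]
    rw [hr, Units.mul_inv_eq_iff_eq_mul, one_mul] at h3
    exact h3
  · rw [← Units.val_mul, ← hq]
    linear_combination -h1

end Groth.Agent.BigCell
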